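import Mathlib
import Cfsg.Agent.Core3.Defs

/-! Theorem P without Goldschmidt's theorem: elementary lemmas (copied from `Core2/PCaseA`). -/

set_option autoImplicit false
set_option linter.unusedSectionVars false
set_option linter.unusedVariables false

namespace Cfsg.Agent.Core3

open MulAction Subgroup Cfsg.Agent.PLocal.Amb Cfsg.Agent.RankOne Cfsg.Agent.Suz Cfsg.Agent.Bender
open Cfsg.Agent.Core2

variable {G Ω : Type*} [Group G] [Finite G] [MulAction G Ω] {D : Set G} {pt : G → Ω}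

/-- An involution `x ∉ D` centralising commuting `d ≠ e` in `D` is conjugate to `x d`. -/
theorem exists_conj_mul (h : HypP Ω D pt) {x d e : G} (hx : Invol x) (hD : x ∉ D) (hd : d ∈ D)
    (he : e ∈ D) (hde : d ≠ e) (hc : d * e = e * d) (hxd : x * d = d * x) (hxe : x * e = e * x) :
    ∃ g : G, g * x * g⁻¹ = x * d := by
  obtain ⟨hw, hwD⟩ := h.mul_not_mem hx hD he hxe
  have hed : e * d ∈ D := h.pc e he d hd hc.symm hde.symm
  have h1 : e ∈ C (x * e) := mem_centralizer_singleton_iff.2 (by rw [← mul_assoc, ← hxe])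
  have h2 : d ∈ C (x * e) := mem_centralizer_singleton_iff.2 (by
    rw [← mul_assoc, ← hxd, mul_assoc, hc, mul_assoc])
  obtain ⟨g, hg, e1⟩ := h.ps.exists_conj_LM (h.twoPt_C hw hwD) he hed h1 ((C _).mul_mem h1 h2)
  have h3 : g * (x * e) = x * e * g := mem_centralizer_singleton_iff.1 (LM_le hg)
  refine ⟨g, ?_⟩
  calc g * x * g⁻¹ = g * (x * (e * e)) * g⁻¹ := by rw [h.ps.sq he, mul_one]
    _ = g * (x * e) * g⁻¹ * (g * e * g⁻¹) := by group
    _ = x * (e * e) * d := by rw [e1, h3]; group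
    _ = x * d := by rw [h.ps.sq he, mul_one]

/-- A Sylow `2`-subgroup fixing a given point. -/
theorem exists_sylow_fix (h : PSS Ω D pt) (a : Ω) :
    ∃ S : Sylow 2 G, ∀ x ∈ (S : Subgroup G), x • a = a := by
  have : Fact (Nat.Prime 2) := ⟨Nat.prime_two⟩
  obtain ⟨S0⟩ : Nonempty (Sylow 2 G) := inferInstance
  obtain ⟨c, hc⟩ := h.exists_fixed S0.isPGroup' a
  obtain ⟨t, -, ht⟩ := h.exists_swap c a
  refine ⟨t • S0, fun x hx => ?_⟩
  rw [coe_smul_sylow, mem_cj_iff_exists] at hx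
  obtain ⟨y, hy, rfl⟩ := hx
  rw [← ht, mul_smul, inv_smul_smul, mul_smul, hc y hy]

/-- A Sylow `2`-subgroup contains two distinct commuting members of `D`. -/
theorem rk2_syl (h : HypP Ω D pt) {S : Subgroup G} (hS : IsSyl 2 S ⊤) : Rk2 D S := by
  have : Fact (Nat.Prime 2) := ⟨Nat.prime_two⟩
  obtain ⟨d, hd, e, he, -, -, h1, h2⟩ := h.rank
  obtain ⟨g, -, hg⟩ := hS.exists_cj_le
    (PS.isPGroup_closure_of_commute (h.ps.sq hd) (h.ps.sq he) h2) le_top
  refine ⟨g * d * g⁻¹, h.ps.conj d hd g, g * e * g⁻¹, h.ps.conj e he g,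
    hg (conj_mem_cj g (subset_closure (by simp))), hg (conj_mem_cj g (subset_closure (by simp))),
    fun e1 => h1 (mul_left_cancel (mul_right_cancel e1)), ?_⟩
  calc g * d * g⁻¹ * (g * e * g⁻¹) = g * (d * e) * g⁻¹ := by group
    _ = g * e * g⁻¹ * (g * d * g⁻¹) := by rw [h2]; group

theorem exists_bad_syl (h : HypP Ω D pt) {S : Subgroup G} (hS : IsSyl 2 S ⊤) {u : G}
    (hu : Invol u) (hD : u ∉ D) : ∃ g : G, g * u * g⁻¹ ∈ S ∧ Invol (g * u * g⁻¹) ∧ g * u * g⁻¹ ∉ D := by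
  have : Fact (Nat.Prime 2) := ⟨Nat.prime_two⟩
  obtain ⟨g, -, hg⟩ := hS.exists_cj_le (LemY.isPGroup_zpowers_invol hu) le_top
  exact ⟨g, hg (conj_mem_cj g (mem_zpowers u)), hu.conj g, fun h1 => hD (h.ps.of_conj h1)⟩

end Cfsg.Agent.Core3
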