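import Mathlib
import Cfsg.Agent.Core3.TwoA

/-! Theorem P, step [II], part B: the congruence `m ≡ 1 (mod q)` (guide 62_core2). -/

set_option autoImplicit false
set_option linter.unusedSectionVars false
set_option linter.unusedVariables false

namespace Cfsg.Agent.Core3

open MulAction Subgroup Cfsg.Agent.PLocal.Amb Cfsg.Agent.RankOne Cfsg.Agent.Suz Cfsg.Agent.Bender
open Cfsg.Agent.Core2

variable {G Ω : Type*} [Group G] [Finite G] [MulAction G Ω] {D : Set G} {pt : G → Ω} {s : G}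

theorem card_eq_orbit (X : Subgroup G) (a : Ω) :
    Nat.card X = (orbit X a).ncard * Nat.card ↥(X ⊓ stabilizer G a) := by
  rw [← index_stabilizer, ← Grp.card_inf_mul_relIndex' (stabilizer G a) X, mul_comm, inf_comm]
  rfl

theorem card_eq_of_trans_smul {X : Subgroup G} {Z : Set Ω} {a : Ω} (h1 : ∀ x ∈ X, x • a ∈ Z)
    (h2 : ∀ w ∈ Z, ∃ x ∈ X, x • a = w) :
    Nat.card X = Z.ncard * Nat.card ↥(X ⊓ stabilizer G a) := by
  rw [card_eq_orbit X a]
  congr 2
  ext w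
  exact ⟨fun ⟨x, e⟩ => e ▸ h1 x x.2, fun hw => by obtain ⟨x, hx, e⟩ := h2 w hw; exact ⟨⟨x, hx⟩, e⟩⟩

theorem dvd_ncard_of_orbits [Finite Ω] {P : Subgroup G} {Z : Set Ω} {k : ℕ}
    (hZ : ∀ x ∈ P, ∀ a ∈ Z, x • a ∈ Z) (h : ∀ a ∈ Z, k ∣ (orbit P a).ncard) : k ∣ Z.ncard := by
  classical
  have := Fintype.ofFinite Ω
  rw [Set.ncard_eq_toFinset_card' Z, Finset.card_eq_sum_card_image (fun a => orbit P a)]
  refine Finset.dvd_sum fun O hO => ?_
  obtain ⟨a, ha, rfl⟩ := Finset.mem_image.1 hO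
  rw [Set.mem_toFinset] at ha
  refine (h a ha).trans (dvd_of_eq ?_)
  rw [Set.ncard_eq_toFinset_card']
  congr 1
  ext b
  simp only [Finset.mem_filter, Set.mem_toFinset, orbit_eq_iff]
  exact ⟨fun hb => ⟨by obtain ⟨x, rfl⟩ := hb; exact hZ x x.2 a ha, hb⟩, fun hb => hb.2⟩

/-- The subgroup generated by the members of `D ∩ M` fixing `a`. -/
def EA (D : Set G) (a : Ω) (M : Subgroup G) : Subgroup G := closure (sw D a a ∩ M)

theorem HypC.mem_EA (h : HypC Ω D pt) {a : Ω} {M : Subgroup G}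
    (hc : ∀ d ∈ sw D a a ∩ M, ∀ e ∈ sw D a a ∩ M, d * e = e * d) {x : G} :
    x ∈ EA D a M ↔ x = 1 ∨ x ∈ sw D a a ∩ M := by
  refine ⟨fun hx => ?_, fun hx => hx.elim (fun e => e ▸ one_mem _) fun hx => subset_closure hx⟩
  induction hx using closure_induction with
  | mem x hx => exact Or.inr hx
  | one => exact Or.inl rfl
  | mul x y _ _ h2 h4 =>
    rcases h2 with rfl | h2
    · simpa using h4
    rcases h4 with rfl | h4
    · exact Or.inr (by simpa using h2)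
    by_cases hxy : x = y
    · exact Or.inl (by rw [hxy, h.ps.sq h4.1.1])
    · exact Or.inr ⟨⟨h.pc x h2.1.1 y h4.1.1 (hc x h2 y h4) hxy, by rw [mul_smul, h4.1.2, h2.1.2]⟩,
        M.mul_mem h2.2 h4.2⟩
  | inv x _ h2 =>
    rcases h2 with rfl | h2
    · exact Or.inl inv_one
    · exact Or.inr (by rwa [h.ps.inv_eq h2.1.1])

theorem HypC.card_EA (h : HypC Ω D pt) {a : Ω} {M : Subgroup G}
    (hc : ∀ d ∈ sw D a a ∩ M, ∀ e ∈ sw D a a ∩ M, d * e = e * d) :
    Nat.card (EA D a M) = (sw D a a ∩ M).ncard + 1 := by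
  rw [← Set.ncard_insert_of_notMem (a := 1) (fun h1 => h.ps.ne_one h1.1.1 rfl),
    ← Nat.card_coe_set_eq]
  exact Nat.card_congr (Equiv.setCongr (Set.ext fun x => h.mem_EA hc))

theorem HypC.mem_normalizer_EA (h : HypC Ω D pt) {a : Ω} {M : Subgroup G} {g : G}
    (hg : ∀ d ∈ sw D a a ∩ M, g * d * g⁻¹ ∈ sw D a a ∩ M) : g ∈ 𝐍[EA D a M] := by
  refine mem_normalizer_of_cj_le ?_
  rw [cj_le_iff, EA, closure_le]
  intro d hd
  rw [SetLike.mem_coe, mem_cj, inv_inv]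
  exact subset_closure (hg d hd)

namespace TII

theorem commE (h : HypC Ω D pt) (T : TII D s) (a : Ω) :
    ∀ d ∈ sw D a a ∩ C s, ∀ e ∈ sw D a a ∩ C s, d * e = e * d := fun d hd e he =>
  T.comm h hd.1.1 he.1.1 hd.2 he.2 ((h.ps.eq_pt hd.1.1 hd.1.2).trans (h.ps.eq_pt he.1.1 he.1.2).symm)

theorem smul_eq_of_normalizer (h : HypC Ω D pt) (T : TII D s) {a : Ω} (ha : s • a = a) {g : G}
    (hg : g ∈ 𝐍[EA D a (C s)]) : g • a = a := by
  obtain ⟨d, hd, h1, rfl⟩ := h.exists_pt T.inv ha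
  have h2 := conj_mem_of_mem_normalizer hg (x := d) (subset_closure ⟨⟨hd, h.ps.smul_pt hd⟩, h1⟩)
  rcases (h.mem_EA (T.commE h _)).1 h2 with h3 | h3
  · exact absurd h3 (h.ps.ne_one (h.ps.conj d hd g))
  · rw [← h.ps.pt_conj hd]
    exact h.ps.eq_pt h3.1.1 h3.1.2

theorem card_C_stab (h : HypC Ω D pt) (T : TII D s) {a b : Ω} (ha : s • a = a) (hb : s • b = b)
    (hab : b ≠ a) : Nat.card ↥(C s ⊓ stabilizer G a) =
      ((fixedBy Ω s).ncard - 1) * Nat.card ↥(C s ⊓ St2 G a b) := by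
  have := h.finite
  obtain ⟨Q, e, i, B⟩ := T.bs h ha
  rw [← Set.ncard_sdiff_singleton_of_mem (a := a) (s := fixedBy Ω s) ha, St2, ← inf_assoc]
  refine card_eq_of_trans_smul (fun x hx => ⟨?_, fun e1 => hab ?_⟩) fun w hw => ?_
  · rw [mem_fixedBy, ← mul_smul, ← mem_C.1 hx.1, mul_smul, hb]
  · exact smul_left_cancel x (e1.trans hx.2.symm)
  · obtain ⟨x, hx, e1⟩ := B.trans b ((h.mem_OM_C T.inv T.nmem).2 hb) w
      ((h.mem_OM_C T.inv T.nmem).2 hw.1) hab hw.2
    exact ⟨x, ⟨LM_le (B.le hx), B.fix x hx⟩, e1⟩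

/-- The normaliser of `⟨s⟩ Q₀`. -/
theorem exists_norm (h : HypC Ω D pt) (T : TII D s) {a : Ω} (ha : s • a = a) :
    ∃ N : Subgroup G, N ≤ 𝐍[EA D a (C s)] ∧
      Nat.card N = Nat.card (EA D a (C s)) * Nat.card ↥(C s ⊓ stabilizer G a) := by
  set E := EA D a (C s)
  let N : Subgroup G :=
    { carrier := {g | g ∈ 𝐍[E] ∧ g * s * g⁻¹ * s ∈ E}
      one_mem' := ⟨one_mem _, by simp [T.inv.2]⟩
      mul_mem' := by
        rintro x y ⟨h1, h2⟩ ⟨h3, h4⟩
        refine ⟨mul_mem h1 h3, ?_⟩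
        have := E.mul_mem (conj_mem_of_mem_normalizer h1 h4) h2
        convert this using 1
        calc x * y * s * (x * y)⁻¹ * s = x * (y * s * y⁻¹ * (s * s)) * x⁻¹ * s := by
              rw [T.inv.2]; group
          _ = _ := by group
      inv_mem' := by
        rintro x ⟨h1, h2⟩
        refine ⟨inv_mem h1, ?_⟩
        have := inv_conj_mem_of_mem_normalizer h1 (E.inv_mem h2)
        convert this using 1
        simp only [mul_inv_rev, T.inv.inv_eq, inv_inv]; group }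
  refine ⟨N, fun x hx => hx.1, ?_⟩
  have h1 := PSS.card_eq_of_trans (X := N) (Z := {x | x * s ∈ E}) (z := s)
    (by simp [T.inv.2]) (fun x hx => hx.2) (fun w hw => by
      have e : w = w * s * s := by rw [mul_assoc, T.inv.2, mul_one]
      rcases (h.mem_EA (T.commE h _)).1 hw with h3 | h3
      · exact ⟨1, N.one_mem, by rw [e, h3]; simp⟩
      obtain ⟨g, hg, hg'⟩ := T.conj_mul h h3.1.1 h3.2
      rw [h.ps.eq_pt h3.1.1 h3.1.2] at hg'
      rw [← e] at hg
      refine ⟨g, ⟨h.mem_normalizer_EA fun d hd => ?_, by rw [hg]; exact hw⟩, hg⟩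
      have h4 := h.ps.conj_mem_sw hd.1 g
      rw [hg'] at h4
      have h5 : g * d * g⁻¹ ∈ C w := by
        rw [← hg, C, centralizer_singleton_conj]; exact conj_mem_cj g hd.2
      have T' := T.mul h h3.1.1 h3.2
      rw [← e] at T'
      have h6 : w * s ∈ C w := by
        have : s ∈ C (w * s) := mem_C.2 (mem_C.1 h3.2).symm
        have h7 : s ∈ C w := by
          rw [mem_C] at this ⊢
          rw [← mul_assoc] at this
          exact mul_right_cancel this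
        exact (C w).mul_mem (mem_C.2 rfl) h7
      have h7 := T'.commE h a _ ⟨h4, h5⟩ _ ⟨h3.1, h6⟩
      refine ⟨h4, mem_C.2 ?_⟩
      rw [← mul_assoc, mem_C.1 h5, mul_assoc w, mul_assoc w] at h7
      exact mul_left_cancel h7)
  have h2 : N ⊓ C s = C s ⊓ stabilizer G a := by
    refine le_antisymm (fun x hx => ⟨hx.2, T.smul_eq_of_normalizer h ha hx.1.1⟩) fun x hx =>
      ⟨⟨h.mem_normalizer_EA fun d hd => ⟨?_, ?_⟩, ?_⟩, hx.1⟩
    · have := h.ps.conj_mem_sw hd.1 x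
      rwa [hx.2] at this
    · exact (C s).mul_mem ((C s).mul_mem hx.1 hd.2) ((C s).inv_mem hx.1)
    · rw [mem_C.1 hx.1, mul_inv_cancel_right, T.inv.2]; exact E.one_mem
  rw [h1, h2]
  congr 1
  rw [← Nat.card_coe_set_eq]
  exact Nat.card_congr ((Equiv.mulRight s).subtypeEquiv fun x => Iff.rfl)

end TII

/-- Data for the maximal choice. -/
structure TwoData (D : Set G) (s : G) (a b : Ω) (R : Subgroup G) : Prop where
  tii : TII D s
  ne : b ≠ a
  fa : s • a = a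
  fb : s • b = b
  le : R ≤ C s ⊓ St2 G a b
  pgrp : IsPGroup 2 R

theorem HypC.exists_max (h : HypC Ω D pt) (T : TII D s) : ∃ (s : G) (a b : Ω) (R : Subgroup G),
    TwoData D s a b R ∧ ∀ (s' : G) (a' b' : Ω) (R' : Subgroup G), TwoData D s' a' b' R' →
      Nat.card R' ≤ Nat.card R := by
  have := h.finite
  obtain ⟨a, b, hab, ha, hb⟩ := h.two_of_not_mem T.inv T.nmem
  have : Nonempty {x : G × Ω × Ω × Subgroup G // TwoData D x.1 x.2.1 x.2.2.1 x.2.2.2} :=
    ⟨⟨(s, a, b, ⊥), T, hab.symm, ha, hb, bot_le, IsPGroup.of_bot⟩⟩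
  obtain ⟨x, hx⟩ := Finite.exists_max
    (fun x : {x : G × Ω × Ω × Subgroup G // TwoData D x.1 x.2.1 x.2.2.1 x.2.2.2} =>
      Nat.card x.1.2.2.2)
  exact ⟨_, _, _, _, x.2, fun s' a' b' R' h' => hx ⟨(s', a', b', R'), h'⟩⟩

theorem HypC.dvd_of_max (h : HypC Ω D pt) {a b : Ω} {R : Subgroup G} (W : TwoData D s a b R)
    (hmax : ∀ (s' : G) (a' b' : Ω) (R' : Subgroup G), TwoData D s' a' b' R' →
      Nat.card R' ≤ Nat.card R) {e j : ℕ} (he : (sw D a a ∩ C s).ncard + 1 = 2 ^ e)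
    (hj : (fixedBy Ω s).ncard - 1 = 2 ^ j) (h4 : 4 < 2 ^ e) : 2 ^ (e + j) ∣ Nat.card Ω - 1 := by
  have := h.finite
  have : Fact (Nat.Prime 2) := ⟨Nat.prime_two⟩
  have T := W.tii
  obtain ⟨N, hN, hc⟩ := T.exists_norm h W.fa
  have hE := h.card_EA (T.commE h a)
  rw [he] at hE
  rw [T.card_C_stab h W.fa W.fb W.ne, hE, hj] at hc
  obtain ⟨P, hP⟩ := exists_isSyl 2 N
  obtain ⟨z, hz⟩ := IsPGroup.iff_card.1 W.pgrp
  have h1 : 2 ^ (e + j + z) ∣ Nat.card P := by
    rw [hP.card_eq_pow]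
    refine Nat.pow_dvd_pow _ ((Nat.prime_two.pow_dvd_iff_le_factorization Nat.card_pos.ne').1 ?_)
    rw [hc, pow_add, pow_add, mul_assoc, ← hz]
    exact Nat.mul_dvd_mul_left _ (Nat.mul_dvd_mul_left _ (card_dvd_of_le W.le))
  have hPa : ∀ x ∈ P, x • a = a := fun x hx => T.smul_eq_of_normalizer h W.fa (hN (hP.le hx))
  rw [← Set.ncard_singleton a, ← Set.ncard_compl]
  refine dvd_ncard_of_orbits (P := P) (fun x hx c hc e1 => hc ?_) fun c hc => ?_
  · exact smul_left_cancel x (e1.trans (hPa x hx).symm)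
  have hca : c ≠ a := hc
  have hp' : IsPGroup 2 ↥(P ⊓ stabilizer G c) := hP.pgrp.to_inf_left
  have h2 : Nat.card ↥(P ⊓ stabilizer G c) ≤ Nat.card R := by
    by_cases hb : P ⊓ stabilizer G c = ⊥
    · rw [hb, card_bot]; exact Nat.card_pos
    have h3 := inf_centralizer_ne_bot hp' hp' le_normalizer hb
    obtain ⟨u, hu, hu'⟩ := Bender.exists_invol_of_even (X := P ⊓ stabilizer G c ⊓ 𝐂[P ⊓ stabilizer G c]) (by
      obtain ⟨k, hk⟩ := IsPGroup.iff_card.1 (hp'.to_inf_left (K := 𝐂[P ⊓ stabilizer G c]))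
      rcases k with _ | k
      · exact absurd (card_eq_one.1 hk) h3
      · rw [hk, pow_succ]; exact even_two.mul_left _)
    have hua := hPa u hu.1.1
    have huc : u • c = c := hu.1.2
    obtain ⟨x, hx, y, hy, h5, h6, h7, h8, h9⟩ := exists_two_centralized hu'.2 (hN (hP.le hu.1.1))
      (fun x hx => ((h.mem_EA (T.commE h a)).1 hx).elim (fun e => by simp [e])
        fun hx => h.ps.sq hx.1.1)
      (fun x hx y hy => by
        rcases (h.mem_EA (T.commE h a)).1 hx with rfl | hx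
        · simp
        rcases (h.mem_EA (T.commE h a)).1 hy with rfl | hy
        · simp
        exact T.commE h a x hx y hy) (hE ▸ h4)
    have hx' := ((h.mem_EA (T.commE h a)).1 hx).resolve_left h5
    have hy' := ((h.mem_EA (T.commE h a)).1 hy).resolve_left h6
    refine hmax u a c _ ⟨⟨hu', fun hD => hca ((h.ps.eq_pt hD huc).symm.trans (h.ps.eq_pt hD hua)),
      x, hx'.1.1, y, hy'.1.1, mem_C.2 h8, mem_C.2 h9, h7, T.commE h a x hx' y hy'⟩, hca, hua, huc,
      fun g hg => ⟨mem_C.2 (hu.2 g hg), hPa g hg.1, hg.2⟩, hp'⟩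
  have h3 := card_eq_orbit P c
  obtain ⟨x, hx⟩ := IsPGroup.iff_card.1 hP.pgrp
  obtain ⟨y, hy⟩ := IsPGroup.iff_card.1 hp'
  obtain ⟨w, -, hw⟩ := (Nat.dvd_prime_pow Nat.prime_two).1 (hx ▸ Dvd.intro _ h3.symm)
  rw [hw, hy, ← pow_add] at h3
  rw [hy, hz, Nat.pow_le_pow_iff_right one_lt_two] at h2
  rw [h3, Nat.pow_dvd_pow_iff_le_right one_lt_two] at h1
  rw [hw]
  exact Nat.pow_dvd_pow _ (by omega)

/-- An involution induces an even permutation on `D`. -/
theorem HypC.four_dvd (h : HypC Ω D pt) {u : G} (hu : Invol u) :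
    4 ∣ D.ncard - (D ∩ C u).ncard := by
  classical
  have := Fintype.ofFinite D
  let φ : G →* Equiv.Perm D :=
    { toFun := fun g => ⟨fun x => ⟨g * x * g⁻¹, h.ps.conj x x.2 g⟩,
        fun x => ⟨g⁻¹ * x * g, h.ps.conj' x.2 g⟩, fun x => Subtype.ext (by simp [mul_assoc]),
        fun x => Subtype.ext (by simp [mul_assoc])⟩
      map_one' := Equiv.ext fun x => Subtype.ext (by simp)
      map_mul' := fun g k => Equiv.ext fun x => Subtype.ext (by simp [mul_assoc]) }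
  have h1 : (Equiv.Perm.sign.comp φ).ker = ⊤ := by
    rw [← index_eq_one]
    have h2 := h.no_index_two (Equiv.Perm.sign.comp φ).ker
    have h3 : (Equiv.Perm.sign.comp φ).ker.index ≤ 2 := by
      rw [index_ker]
      exact (card_le_card_group _).trans (by simp)
    have h4 := (Equiv.Perm.sign.comp φ).ker.index_ne_zero_of_finite
    omega
  have h2 : Equiv.Perm.sign (φ u) = 1 := 
    (MonoidHom.mem_ker (f := Equiv.Perm.sign.comp φ)).1 (h1 ▸ mem_top u)
  rw [Equiv.Perm.sign_of_pow_two_eq_one (by rw [← map_pow, pow_two, hu.2, map_one]),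
    neg_one_pow_eq_one_iff_even (by decide)] at h2
  have h3 : Fintype.card (Function.fixedPoints (φ u)) = (D ∩ C u).ncard := by
    rw [← Nat.card_eq_fintype_card, ← Nat.card_coe_set_eq]
    exact Nat.card_congr ⟨fun x => ⟨x.1, x.1.2, mem_C.2
        (mul_inv_eq_iff_eq_mul.1 (congrArg Subtype.val x.2)).symm⟩,
      fun x => ⟨⟨x.1, x.2.1⟩, Subtype.ext (mul_inv_eq_iff_eq_mul.2 (mem_C.1 x.2.2).symm)⟩,
      fun x => rfl, fun x => rfl⟩
  rw [h3, ← Nat.card_eq_fintype_card, Nat.card_coe_set_eq] at h2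
  have h4 := ncard_modEq_conj (Z := D) (v := u) (k := 1) Nat.prime_two (by rw [pow_one, pow_two, hu.2])
    fun x hx => h.ps.conj x hx u
  have h5 : {x | x ∈ D ∧ u * x = x * u} = D ∩ C u :=
    Set.ext fun x => ⟨fun h => ⟨h.1, mem_C.2 h.2.symm⟩, fun h => ⟨h.1, (mem_C.1 h.2).symm⟩⟩
  rw [h5] at h4
  have h6 := (Nat.modEq_iff_dvd' (Set.ncard_le_ncard Set.inter_subset_left)).1 h4.symm
  obtain ⟨k, hk⟩ := h6
  rw [hk, Nat.mul_div_cancel_left _ two_pos] at h2
  obtain ⟨l, rfl⟩ := h2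
  exact ⟨l, by omega⟩

theorem HypC.m_modEq (h : HypC Ω D pt) {a b : Ω} {R : Subgroup G} (W : TwoData D s a b R)
    (hmax : ∀ (s' : G) (a' b' : Ω) (R' : Subgroup G), TwoData D s' a' b' R' →
      Nat.card R' ≤ Nat.card R) {e i : ℕ} (he2 : 2 ≤ e) (hi : 1 ≤ i)
    (he : (sw D a a ∩ C s).ncard + 1 = 2 ^ e) (hf : (fixedBy Ω s).ncard = (2 ^ e) ^ i + 1)
    {α : Ω} (hα : s • α ≠ α) : (sw D α (s • α) ∩ C s).ncard ≡ 1 [MOD 2 ^ e] := by
  have := h.finite
  have T := W.tii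
  have h1 := T.count h hα W.fa
  have h2 := T.n_eq h hα W.fa
  have h3 := h.pss.odd_ncard_sw a a
  have h4 : (fixedBy Ω s).ncard ≤ Nat.card Ω := Set.ncard_le_card _
  obtain ⟨i, rfl⟩ : ∃ k, i = k + 1 := ⟨i - 1, by omega⟩
  by_cases hq : 4 < 2 ^ e
  · obtain ⟨k, hk⟩ := h.dvd_of_max W hmax he (j := e * (i + 1)) (by rw [hf, pow_mul]; rfl) hq
    rw [pow_add, pow_mul] at hk
    rw [hf] at h1 h4
    generalize (sw D α (s • α) ∩ C s).ncard = m at *
    generalize (sw D a a ∩ C s).ncard = c at *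
    generalize Nat.card Ω = N at *
    rw [← he] at *
    have hJ : 0 < (c + 1) ^ (i + 1) := by positivity
    have h5 : (c + 1) * k * m = ((c + 1) ^ (i + 1) + 1) * c + m := by
      apply Nat.eq_of_mul_eq_mul_left hJ
      rw [Nat.add_sub_cancel] at h1
      obtain ⟨x, rfl⟩ := Nat.exists_eq_add_of_le h4
      rw [Nat.add_sub_cancel_left] at h1
      have : (c + 1) ^ (i + 1) + x = (c + 1) * (c + 1) ^ (i + 1) * k := by omega
      zify at h1 this ⊢
      linear_combination h1 - m * this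
    have h6 : m + c ≡ 1 + c [MOD (c + 1)] := by
      have h7 : (c + 1) ∣ m + c := by
        have : (c + 1) * (k * m) = (c + 1) * ((c + 1) ^ i * c) + (m + c) := by
          rw [← mul_assoc, h5]; ring
        exact (Nat.dvd_add_right (dvd_mul_right _ _)).1 (this ▸ dvd_mul_right _ _)
      rw [add_comm 1 c]
      exact (Nat.modEq_zero_iff_dvd.2 h7).trans (Nat.modEq_zero_iff_dvd.2 dvd_rfl).symm
    exact Nat.ModEq.add_right_cancel' c h6
  · have hq4 : 2 ^ e = 4 := le_antisymm (not_lt.1 hq) (Nat.pow_le_pow_right two_pos he2)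
    have h5 := h.four_dvd T.inv
    have h6 : (D ∩ C s).ncard ≤ D.ncard := Set.ncard_le_ncard Set.inter_subset_left
    rw [h.ncard_inter_C T.inv W.fa, h.ncard_D a, h2] at h5 h6
    rw [h2] at h3
    rw [hq4] at he hf ⊢
    rw [hf] at h1 h4 h5 h6
    generalize (sw D α (s • α) ∩ C s).ncard = m at *
    generalize Nat.card Ω = N at *
    have hc : (sw D a a ∩ C s).ncard = 3 := by omega
    rw [hc] at h1 h3 h5 h6
    obtain ⟨x, rfl⟩ := Nat.exists_eq_add_of_le h4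
    rw [Nat.add_sub_cancel_left, Nat.add_sub_cancel] at h1
    have hm : Odd m := (Nat.odd_mul.1 h3).1
    have h7 : 4 ∣ x := by
      refine Nat.Coprime.dvd_of_dvd_mul_right (k := 4) (n := m) ?_ ⟨(4 ^ (i + 1) + 1) * 3 * 4 ^ i, by
        rw [h1]; ring⟩
      exact Nat.Coprime.pow_left 2 (Nat.coprime_two_left.2 hm)
    obtain ⟨y, rfl⟩ := h7
    obtain ⟨z, hz⟩ := h5
    rw [pow_succ] at hz h6
    have h8 : (4 ^ i * 4 + 1 + 4 * y) * (m * 3) = 4 * ((4 ^ i + y) * (m * 3)) + m * 3 := by ring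
    rw [h8] at hz h6
    unfold Nat.ModEq
    omega

end Cfsg.Agent.Core3
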