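import Mathlib
import Cfsg.Agent.Core3.AFinal
import Cfsg.Agent.Inv.Basic

/-! Theorem P, step [II] (guide 62_core2). -/

set_option autoImplicit false
set_option linter.unusedSectionVars false
set_option linter.unusedVariables false

namespace Cfsg.Agent.Core3

open MulAction Subgroup Cfsg.Agent.PLocal.Amb Cfsg.Agent.RankOne Cfsg.Agent.Suz Cfsg.Agent.Bender
open Cfsg.Agent.Core2

variable {G Ω : Type*} [Group G] [Finite G] [MulAction G Ω] {D : Set G} {pt : G → Ω} {s : G}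

theorem HypC.inverts_mul (h : HypC Ω D pt) {t t' : G} (ht : t ∈ D) (ht' : t' ∈ D) :
    t * (t * t') * t⁻¹ = (t * t')⁻¹ := by
  rw [← mul_assoc, h.ps.sq ht, one_mul, mul_inv_rev, h.ps.inv_eq ht']

/-- Semiregularity of inverted elements. -/
theorem HypC.dvd_of_inverted (h : HypC Ω D pt) {p k : ℕ} (hp : p.Prime) {y t u : G} {δ : Ω}
    (hk : y ^ p ^ k = 1) (hy1 : y ≠ 1) (hodd : Odd (orderOf y)) (hyu : y ∈ C u) (hyδ : y • δ = δ)
    (ht : t ∈ D) (htδ : t • δ ≠ δ) (hinv : t * y * t⁻¹ = y⁻¹) : p ∣ (sw D δ δ ∩ C u).ncard := by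
  by_contra hc
  obtain ⟨z, hz, h1⟩ := exists_of_modEq (ncard_modEq_conj (Z := sw D δ δ ∩ C u) hp hk fun x hx =>
    ⟨by have := h.ps.conj_mem_sw hx.1 y; rwa [hyδ] at this,
      (C u).mul_mem ((C u).mul_mem hyu hx.2) ((C u).inv_mem hyu)⟩) hc
  exact hy1 (h.pss.not_commute_of_inverted ht htδ hyδ hodd hinv hz.1.1
    (h.ps.eq_pt hz.1.1 hz.1.2) h1)

theorem HypC.false_of_ncard (h : HypC Ω D pt) {M : Subgroup G} (hM : M ≠ ⊤) (h2 : TwoPt D pt M)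
    {a : Ω} (hc : (sw D a a).ncard ≤ (sw D a a ∩ M).ncard) : False := by
  have := Set.eq_of_subset_of_ncard_le Set.inter_subset_left hc
  refine h.not_le_proper hM h2 a fun d hd e => ?_
  have h1 : d ∈ sw D a a := h.ps.mem_sw_self.2 ⟨hd, e⟩
  rw [← this] at h1
  exact h1.2

theorem mem_normalizer_Opp_of_swap {a b : Ω} {t : G} (h1 : t • a = b) (h2 : t • b = a) :
    t ∈ 𝐍[Opp 2 (St2 G a b)] := normalizer_le_normalizer_Opp (mem_normalizer_St2_of_swap h1 h2)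

namespace TII

theorem m_ne_one (h : HypC Ω D pt) (T : TII D s) {α : Ω} (hα : s • α ≠ α) :
    (sw D α (s • α) ∩ C s).ncard ≠ 1 := by
  intro hm
  obtain ⟨c, -, -, hc, -⟩ := h.two_of_not_mem T.inv T.nmem
  have := T.n_eq h hα hc
  rw [hm, one_mul] at this
  exact h.false_of_ncard (h.C_ne_top' T.inv T.nmem) (h.twoPt_C T.inv T.nmem) this.le

theorem exists_pair (h : HypC Ω D pt) (T : TII D s) {α : Ω} (hα : s • α ≠ α) {p : ℕ} (hp : p.Prime)
    (hd : p ∣ (sw D α (s • α) ∩ C s).ncard) (hp2 : p ≠ 2) :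
    ∃ t ∈ sw D α (s • α) ∩ C s, ∃ t' ∈ sw D α (s • α) ∩ C s, t ≠ t' ∧ ∃ k : ℕ, (t * t') ^ p ^ k = 1 := by
  have : Fact p.Prime := ⟨hp⟩
  obtain ⟨t, ht, hts⟩ := T.exists_T h hα
  set X := Opp 2 (St2 G α (s • α)) ⊓ C s
  have hX : Odd (Nat.card X) := (odd_card_Opp _).of_dvd_nat (card_dvd_of_le inf_le_left)
  have hmap : ∀ x ∈ X, x * t * x⁻¹ ∈ sw D α (s • α) ∩ C s := fun x hx =>
    ⟨h.pss.conj_mem_sw ht (St2_le_Sw2 _ _ (Opp_le hx.1)),
      (C s).mul_mem ((C s).mul_mem hx.2 hts) ((C s).inv_mem hx.2)⟩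
  have h1 := PSS.card_eq_of_trans (X := X) (Z := sw D α (s • α) ∩ C s) (z := t) ⟨ht, hts⟩ hmap
    fun w hw => by
      obtain ⟨x, hx, e⟩ := h.pss.exists_conj_sw hα.symm ht hw.1
      exact ⟨x, zpowers_le_of_mem (H := X) ⟨h.pss.mul_mem_Opp hα.symm ht hw.1,
        (C s).mul_mem hts hw.2⟩ hx, e⟩
  have htX : zpowers t ≤ 𝐍[X] := le_normalizer_inf
    (zpowers_le_of_mem (mem_normalizer_Opp_of_swap ht.2 (h.ps.swap ht.1 ht.2)))
    ((zpowers_le_of_mem hts).trans le_normalizer)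
  obtain ⟨R, hR, -, hn⟩ := LemY.exists_inv_syl_ge (p := p) (U := ⊥)
    (LemY.isPGroup_zpowers_invol (h.ps.invol ht.1)) hX htX bot_le IsPGroup.of_bot
    (by rw [normalizer_eq_top]; exact le_top)
  obtain ⟨r, hr, hrt⟩ : ∃ r ∈ R, r ∉ C t := by
    by_contra hc
    push Not at hc
    apply hR.not_dvd_relIndex
    have h5 := Grp.card_inf_mul_relIndex' (X ⊓ C t) X
    rw [inf_eq_left.2 inf_le_left, h1, mul_comm] at h5
    exact (Nat.eq_of_mul_eq_mul_right Nat.card_pos h5 ▸ hd).trans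
      (relIndex_dvd_of_le_left _ (le_inf hR.le hc))
  refine ⟨t, ⟨ht, hts⟩, _, hmap r (hR.le hr), fun e => hrt (mem_C.2 ?_), isPGroup_iff.1 hR.pgrp _ ?_⟩
  · exact mul_inv_eq_iff_eq_mul.1 e.symm
  · have := R.mul_mem (conj_mem_of_mem_normalizer (hn (mem_zpowers t)) hr) (R.inv_mem hr)
    rw [h.ps.inv_eq ht.1] at this
    simpa only [mul_assoc] using this

theorem prime_dvd (h : HypC Ω D pt) (T : TII D s) {α : Ω} (hα : s • α ≠ α) {e : ℕ}
    (hbs : ∀ a : Ω, s • a = a → ∃ Q, BS (LM D (C s)) a Q e 3) {p : ℕ} (hp : p.Prime)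
    (hd : p ∣ (sw D α (s • α) ∩ C s).ncard) (hp2 : p ≠ 2) : p ∣ 2 ^ e + 1 ∨ p ∣ 2 ^ e - 1 := by
  have := h.finite
  obtain ⟨t, ht, t', ht', hne, k, hk⟩ := T.exists_pair h hα hp hd hp2
  have hpure := h.pure_C T.inv T.nmem
  obtain ⟨Q, B⟩ := hbs _ (pt_mapsTo h _ _ ht)
  have hpt : pt t' ≠ pt t := fun e1 => hne (T.pt_injOn h hα.symm ht ht' e1.symm)
  obtain ⟨r, v, -, -, hvL, -, -, -, h1, h2, h3⟩ := ((B.icases.resolve_left (by decide)).resolve_left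
    (by decide)).2 _ (h.ps.pt_mem_OM ht'.1.1 ht'.2) hpt
  have h4 := h1 t ((h.ps.mem_IA hpure).2 ⟨ht.1.1, ht.2, rfl⟩)
  have h5 := h2 t' ((h.ps.mem_IA hpure).2 ⟨ht'.1.1, ht'.2, rfl⟩)
  have hy : t * t' ∈ LM D (C s) := mul_mem (mem_LM ht.1.1 ht.2) (mem_LM ht'.1.1 ht'.2)
  by_contra hc
  push Not at hc
  obtain ⟨δ, ⟨hδ, -⟩, h6⟩ := exists_of_modEq (ncard_modEq_smul
    (Z := {c | c ∈ OM Ω (LM D (C s)) ∧ v • c = c}) hp hk fun x hx => ⟨smul_mem_OM' hx.1 hy, by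
      rw [← mul_smul, ← mul_assoc, h4, mul_assoc, h5, ← mul_assoc, mul_smul, hx.2]⟩) (h3 ▸ hc.1)
  have h7 : t • δ ≠ δ := fun e1 => hpt (by
    rw [h.ps.eq_pt ht.1.1 e1]
    refine h.ps.eq_pt ht'.1.1 ?_
    rw [mul_smul] at h6
    exact (h.ps.swap ht.1.1 h6).symm.trans e1)
  have h8 := h.dvd_of_inverted hp hk (fun e1 => hne (by
      rw [← h.ps.inv_eq ht.1.1, inv_mul_eq_one] at e1; exact e1))
    (h.pss.odd_mul hα.symm ht.1 ht'.1) (LM_le hy) h6 ht.1.1 h7 (h.inverts_mul ht.1.1 ht'.1.1)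
  obtain ⟨Q', B'⟩ := hbs δ ((h.mem_OM_C T.inv T.nmem).1 hδ)
  have h9 := B'.card_inv
  rw [h.IA_eq hpure] at h9
  exact hc.2 (by rw [← h9]; exact h8)

theorem m_ne_succ (h : HypC Ω D pt) (T : TII D s) {α : Ω} (hα : s • α ≠ α) {e : ℕ} {a : Ω}
    (ha : s • a = a) {Q : Subgroup G} (B : BS (LM D (C s)) a Q e 3) :
    (sw D α (s • α) ∩ C s).ncard ≠ 2 ^ e + 1 := by
  intro hm
  have := h.finite
  have hpure := h.pure_C T.inv T.nmem
  have hc := B.card_inv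
  have hf := B.card_OM
  rw [h.IA_eq hpure] at hc
  rw [h.OM_eq T.inv T.nmem] at hf
  have he2 := B.two_le
  have hq4 : 4 ≤ 2 ^ e := Nat.pow_le_pow_right two_pos he2
  obtain ⟨b, hb, hba⟩ := (T.lse h).exists_OM_ne a
  obtain ⟨r, v, hr, hrd, hvL, ⟨k, hk⟩, hva, -, h1, -, h3⟩ :=
    ((B.icases.resolve_left (by decide)).resolve_left (by decide)).2 b hb hba
  rw [h.IA_eq hpure] at h1
  have hr2 : ¬ r ∣ 2 := fun h2 => by
    have := (Nat.dvd_add_right (h2.trans (dvd_pow_self 2 (by omega : e ≠ 0)))).1 hrd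
    exact hr.one_lt.ne' (Nat.dvd_one.1 this)
  obtain ⟨t, ht, hts, rfl⟩ := h.exists_pt T.inv ha
  have hvs : v ∈ C s := LM_le hvL
  have hvt : v * t = t * v := h1 t ⟨⟨ht, h.ps.smul_pt ht⟩, hts⟩
  have hvw : v ∈ C (t * s) := mem_C.2 (by rw [← mul_assoc, hvt, mul_assoc, mem_C.1 hvs, mul_assoc])
  have T' := T.mul h ht hts
  have htw : t ∈ C (t * s) := mem_C.2 (by rw [mul_assoc, ← mem_C.1 hts])
  have hwa : (t * s) • pt t = pt t := by rw [mul_smul, ha, h.ps.smul_pt ht]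
  obtain ⟨β, ⟨hβ, hβa⟩, hvβ⟩ := exists_of_modEq (ncard_modEq_smul
    (Z := fixedBy Ω (t * s) \ {pt t}) hr hk fun x hx =>
      ⟨by rw [mem_fixedBy, ← mul_smul, ← mem_C.1 hvw, mul_smul, hx.1],
        fun e1 => hx.2 (smul_left_cancel v (e1.trans hva.symm))⟩) (by
    rw [Set.ncard_sdiff_singleton_of_mem (s := fixedBy Ω (t * s)) hwa, T.ncard_fixedBy h ht hts, hf,
      Nat.add_sub_cancel, ← pow_mul]
    exact fun h2 => hr2 (hr.dvd_of_dvd_pow h2))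
  have hβa' : β ≠ pt t := hβa
  rw [mem_fixedBy] at hβ
  have htβ : t • β = s • β := h.ps.swap ht (by rwa [mul_smul] at hβ)
  have hsβ : s • β ≠ β := fun e1 => h.ps.smul_ne ht hβa' (htβ.trans e1)
  have htS : t ∈ sw D β (s • β) := ⟨ht, htβ⟩
  have hvS : v ∈ St2 G β (s • β) := mem_St2.2 ⟨hvβ, by rw [← mul_smul, mem_C.1 hvs, mul_smul, hvβ]⟩
  obtain ⟨t', ⟨ht', hvt'⟩, hne⟩ := exists_ne_of_modEq hr (ncard_modEq_conj
    (Z := sw D β (s • β) ∩ C s) hr hk fun x hx => ⟨h.pss.conj_mem_sw hx.1 (St2_le_Sw2 _ _ hvS),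
      (C s).mul_mem ((C s).mul_mem hvs hx.2) ((C s).inv_mem hvs)⟩)
    (by rw [T.m_eq h hα hsβ, hm]; exact hrd) (x := t) ⟨⟨htS, hts⟩, hvt⟩
  have hv1 : v ≠ 1 := by
    rintro rfl
    simp only [one_smul, and_true, Set.ofPred_mem_eq] at h3
    rw [h.OM_eq T.inv T.nmem, hf] at h3
    generalize 2 ^ e = q at h3 hq4
    have := Nat.pow_lt_pow_right (show 1 < q by omega) (show 1 < 3 by decide)
    rw [pow_one] at this
    omega
  have hM := h.C_ne_top hv1 hva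
  have hcβ := T.ncard_block h ht hts hβ hβ ha
  obtain ⟨z, hz, hvz⟩ := exists_of_modEq (ncard_modEq_conj (Z := sw D β β ∩ C (t * s)) hr hk
    fun x hx => ⟨by have := h.ps.conj_mem_sw hx.1 v; rwa [hvβ] at this,
      (C _).mul_mem ((C _).mul_mem hvw hx.2) ((C _).inv_mem hvw)⟩) (by
    rw [hcβ]
    intro h2
    rw [← hc, add_assoc] at hrd
    exact hr2 ((Nat.dvd_add_right h2).1 hrd))
  have hzβ : pt z = β := h.ps.eq_pt hz.1.1 hz.1.2
  have htM : t ∈ C v := mem_C.2 hvt.symm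
  have hzM : z ∈ C v := mem_C.2 hvz.symm
  have h2 : TwoPt D pt (C v) := ⟨t, ht, z, hz.1.1, htM, hzM, hzβ ▸ hβa'.symm⟩
  have hrk : Rk2 D (C v) := by
    obtain ⟨w, hw, h4, h5, h6⟩ := h.ps.exists_four T.rk (h.twoPt_C T.inv T.nmem) ht hts
    exact ⟨t, ht, w, hw, htM, mem_C.2 (h1 w ⟨h.ps.mem_sw_self.2
      ⟨hw, (h.ps.pt_eq_of_commute ht hw h6).symm⟩, h4⟩).symm, h5.symm, h6⟩
  have hz' := h.ps.conj z hz.1.1 t
  have hz'β : pt (t * z * t⁻¹) = s • β := by rw [h.ps.pt_conj hz.1.1, hzβ, htβ]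
  have hz'M : t * z * t⁻¹ ∈ C (t * s) ⊓ C v :=
    mul_mem (mul_mem (mem_inf.2 ⟨htw, htM⟩) (mem_inf.2 ⟨hz.2, hzM⟩)) (inv_mem (mem_inf.2 ⟨htw, htM⟩))
  obtain ⟨u, hu, huM, hu1, -⟩ := h.ps.exists_swap_mem hz' ht hz'M (mem_inf.2 ⟨htw, htM⟩) (by
    rw [hz'β]; intro e1
    exact hβa' (by rw [← LemY.smul_smul_invol T.inv β, e1, ha]))
  rw [hz'β] at hu1
  have hsub : sw D β (s • β) ∩ ↑(C v ⊓ C (t * s)) = sw D β (s • β) ∩ C (t * s) := by
    refine Set.ext fun x => ⟨fun hx => ⟨hx.1, hx.2.2⟩, fun hx => ⟨hx.1, mem_C.2 ?_, hx.2⟩⟩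
    refine (h.ps.commute_of_swap hz.1.1 hx.1.1 (by rw [hzβ, hx.1.2]; exact hsβ) hvz ?_).symm
    have h4 : x * z * x⁻¹ ∈ sw D (s • β) (s • β) := by
      have := h.ps.conj_mem_sw hz.1 x
      rwa [hx.1.2] at this
    have h5 := h.ps.conj_mem_sw h4 u
    rw [hu1] at h5
    have h6 : u * (x * z * x⁻¹) * u⁻¹ ∈ C (t * s) :=
      mul_mem (mul_mem huM.1 (mul_mem (mul_mem hx.2 hz.2) (inv_mem hx.2))) (inv_mem huM.1)
    have h7 := T'.commE h _ _ ⟨h5, h6⟩ t ⟨⟨ht, h.ps.smul_pt ht⟩, htw⟩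
    have h8 : u * (x * z * x⁻¹) * u⁻¹ ∈ C s := by
      rw [mem_C] at h6 ⊢
      rw [← mul_assoc _ t, h7, mul_assoc t, mul_assoc t] at h6
      exact mul_left_cancel h6
    have h9 : u * (x * z * x⁻¹) * u⁻¹ ∈ C v := mem_C.2 (h1 _ ⟨h5, h8⟩).symm
    rw [(C v).mul_mem_cancel_right (inv_mem huM.2), (C v).mul_mem_cancel_left huM.2] at h9
    exact (mem_C.1 h9).symm
  have hpart := h.part T.inv T.nmem hsβ (M := C v) (mem_C.2 (mem_C.1 hvs).symm) htS htM hts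
  rw [hsub, T.ncard_block h ht hts hβ (T.mul_smul_eq h htS).2 ha] at hpart
  have hm2 : 2 ≤ (sw D β (s • β) ∩ ↑(C v ⊓ C s)).ncard := by
    rw [← Set.ncard_pair hne]
    refine Set.ncard_le_ncard ?_
    rintro x (rfl | rfl)
    · exact ⟨ht'.1, mem_C.2 hvt'.symm, ht'.2⟩
    · exact ⟨htS, htM, hts⟩
  have h4 := h.ps.ncard_sw_inter hz.1.1 hz' hz.1.1 hz.1.1 hzM hz'M.2 hzM hzM
  rw [hz'β, hzβ] at h4
  obtain ⟨Q', e', i', B'⟩ := (h.lse hM hrk h2).bs (h.centKer hM hrk h2) (h.ps.pt_mem_OM hz.1.1 hzM)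
  have h5 := B'.card_inv
  rw [h.IA_eq (h.good _ hM h2), hzβ] at h5
  have h6 := T.n_eq h hα ha
  rw [hm, h.pss.ncard_sw _ _ β β] at h6
  have h7 : (sw D β β ∩ C v).ncard ≤ (sw D β β).ncard := Set.ncard_le_ncard Set.inter_subset_left
  have hc' : (sw D (pt t) (pt t) ∩ C s).ncard = 2 ^ e - 1 := by omega
  rw [hc'] at h6 hpart
  have h8 : (sw D β β).ncard + 1 = (2 ^ e) ^ 2 := by
    rw [h6]
    obtain ⟨x, hx⟩ : ∃ x, 2 ^ e = x + 1 := ⟨2 ^ e - 1, by omega⟩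
    rw [hx, Nat.add_sub_cancel]; ring
  have h9 := num_pow (e' := e') he2 hm2 (by rw [← hpart, h4, h5]) (by omega)
  exact h.false_of_ncard hM h2 (a := β) (by omega)

theorem surj_of_m_eq (h : HypC Ω D pt) (T : TII D s) {α : Ω} (hα : s • α ≠ α)
    (hm : (sw D α (s • α) ∩ C s).ncard = (fixedBy Ω s).ncard) {β γ : Ω} (hβ : s • β ≠ β)
    (hγ : s • γ = γ) : ∃ t ∈ sw D β (s • β) ∩ C s, pt t = γ := by
  have := h.finite
  have h1 := Set.eq_of_subset_of_ncard_le (pt_mapsTo h β (s • β)).image_subset (by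
    rw [(T.pt_injOn h hβ.symm).ncard_image, T.m_eq h hα hβ, hm])
  have h2 : γ ∈ fixedBy Ω s := hγ
  rwa [← h1] at h2

theorem two_trans (h : HypC Ω D pt) (T : TII D s) {α : Ω} (hα : s • α ≠ α)
    (hm : (sw D α (s • α) ∩ C s).ncard = (fixedBy Ω s).ncard) {x y x' y' : Ω} (hxy : x ≠ y)
    (hxy' : x' ≠ y') : ∃ g : G, g • x = x' ∧ g • y = y' := by
  obtain ⟨a, b, hab, ha, hb⟩ := h.two_of_not_mem T.inv T.nmem
  obtain ⟨Q, e, i, B⟩ := T.bs h ha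
  have k1 : ∀ β, s • β = β → β ≠ a → ∃ g : G, g • a = a ∧ g • β = b := fun β h1 h2 => by
    obtain ⟨g, hg, e1⟩ := B.trans β ((h.mem_OM_C T.inv T.nmem).2 h1) b
      ((h.mem_OM_C T.inv T.nmem).2 hb) h2 hab.symm
    exact ⟨g, B.fix g hg, e1⟩
  have k2 : ∀ β, β ≠ a → ∃ g : G, g • a = a ∧ g • β = b := fun β h2 => by
    by_cases h1 : s • β = β
    · exact k1 β h1 h2
    obtain ⟨t, ht, rfl⟩ := T.surj_of_m_eq h hα hm h1 ha
    obtain ⟨g, hg, hg'⟩ := T.conj_mul h ht.1.1 ht.2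
    have h3 := (T.mul_smul_eq h ht.1).1
    rw [← hg, mul_smul, mul_smul, ← eq_inv_smul_iff] at h3
    obtain ⟨g', h4, h5⟩ := k1 _ h3 (fun e1 => h2 (by rw [inv_smul_eq_iff, hg'] at e1; exact e1))
    exact ⟨g' * g⁻¹, by rw [mul_smul, inv_smul_eq_iff.2 hg'.symm, h4], by rw [mul_smul, h5]⟩
  have k3 : ∀ x y : Ω, x ≠ y → ∃ g : G, g • x = a ∧ g • y = b := fun x y hxy => by
    obtain ⟨t, -, ht⟩ := h.pss.exists_swap x a
    obtain ⟨g, h1, h2⟩ := k2 (t • y) fun e1 => hxy (smul_left_cancel t (ht.trans e1.symm))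
    exact ⟨g * t, by rw [mul_smul, ht, h1], by rw [mul_smul, h2]⟩
  obtain ⟨g, h1, h2⟩ := k3 x y hxy
  obtain ⟨g', h3, h4⟩ := k3 x' y' hxy'
  exact ⟨g'⁻¹ * g, by rw [mul_smul, h1, inv_smul_eq_iff, h3], by rw [mul_smul, h2, inv_smul_eq_iff, h4]⟩

theorem core (h : HypC Ω D pt) (T : TII D s) {α : Ω} (hα : s • α ≠ α)
    (hm : (sw D α (s • α) ∩ C s).ncard = (fixedBy Ω s).ncard) {p : ℕ} (hp : p.Prime) {a : Ω}
    (ha : s • a = a) (hcop : ¬ (p ∣ (fixedBy Ω s).ncard ∧ p ∣ (sw D a a ∩ C s).ncard)) {t y : G}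
    (ht : t ∈ sw D α (s • α)) (hts : t ∈ C s) (hy : y ^ p = 1) (hodd : Odd (orderOf y))
    (hyS : y ∈ St2 G α (s • α)) (hinv : t * y * t⁻¹ = y⁻¹) (hyt : y • pt t = pt t) : y = 1 := by
  have := h.finite
  have : Fact p.Prime := ⟨hp⟩
  set X := Opp 2 (St2 G α (s • α))
  have hX : Odd (Nat.card X) := odd_card_Opp _
  have hyX : y ∈ X := by
    have := h.pss.mul_mem_Opp hα.symm ht (h.pss.mul_mem_sw ht hyS hodd hinv)
    rwa [← mul_assoc, h.ps.sq ht.1, one_mul] at this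
  have htX : t ∈ 𝐍[X] := mem_normalizer_Opp_of_swap ht.2 (h.ps.swap ht.1 ht.2)
  have hsX : s ∈ 𝐍[X] := mem_normalizer_Opp_of_swap rfl (LemY.smul_smul_invol T.inv α)
  have hV := PS.isPGroup_closure_of_commute T.inv.2 (h.ps.sq ht.1) (mem_C.1 hts).symm
  set V := closure ({s, t} : Set G)
  have hsV : s ∈ V := subset_closure (by simp)
  have htV : t ∈ V := subset_closure (by simp)
  have hVX : V ≤ 𝐍[X] := by
    rw [closure_le]; rintro x (rfl | rfl)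
    exacts [hsX, htX]
  have hz := LemY.isPGroup_zpowers_invol (h.ps.invol ht.1)
  obtain ⟨R', hR', hyR', hn'⟩ := LemY.exists_inv_syl_ge (p := p) (U := zpowers y) hz hX
    (zpowers_le_of_mem htX) (zpowers_le_of_mem hyX) (isPGroup_zpowers ⟨1, by rwa [pow_one]⟩)
    (zpowers_le_of_mem (mem_normalizer_of_cj_le (by
      rw [cj_le_iff, zpowers_le, mem_cj, inv_inv, hinv]; exact inv_mem (mem_zpowers y))))
  obtain ⟨R, hR, -, hn⟩ := LemY.exists_inv_syl_ge (p := p) (U := ⊥) hV hX hVX bot_le IsPGroup.of_bot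
    (by rw [normalizer_eq_top]; exact le_top)
  obtain ⟨g, hgX, hgt, hg⟩ := LemY.inv_syl_conj hz hX (zpowers_le_of_mem htX) hR' hR hn'
    ((zpowers_le_of_mem htV).trans hn)
  have hgt' : g * t = t * g := (hgt t (mem_zpowers t)).symm
  have hy1 : g * y * g⁻¹ ∈ R := hg ▸ conj_mem_cj g (hyR' (mem_zpowers y))
  suffices h0 : g * y * g⁻¹ = 1 by simpa [mul_inv_eq_one] using h0
  have hinv1 : t * (g * y * g⁻¹) * t⁻¹ = (g * y * g⁻¹)⁻¹ := by
    calc t * (g * y * g⁻¹) * t⁻¹ = (t * g) * y * (t * g)⁻¹ := by group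
      _ = g * (t * y * t⁻¹) * g⁻¹ := by rw [← hgt']; group
      _ = _ := by rw [hinv]; group
  have hyt1 : (g * y * g⁻¹) • pt t = pt t := by
    have := h.ps.smul_pt_of_commute ht.1 hgt'
    rw [mul_smul, mul_smul, inv_smul_eq_iff.2 this.symm, hyt, this]
  generalize g * y * g⁻¹ = y1 at hy1 hinv1 hyt1
  have hRo : ∀ x ∈ R, Odd (orderOf x) := fun x hx => hX.of_dvd_nat (orderOf_dvd_natCard _ (hR.le hx))
  have hd := h.pss.mul_mem_sw ht (Opp_le (hR.le hy1)) (hRo _ hy1) hinv1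
  have hdt : pt (t * y1) = pt t := h.ps.eq_pt hd.1 (by rw [mul_smul, hyt1, h.ps.smul_pt ht.1])
  suffices h0 : t * y1 = t by simpa using h0
  obtain ⟨t1, ht1, ht1s, hdw, hw⟩ := h.exists_block T.inv T.nmem hα hd
  have hVR : (R ⊔ V) ⊓ X = R := by
    rw [sup_inf_of_le_normalizer' hR.le hn, (disjoint_of_coprime_natCard ?_).eq_bot, sup_bot_eq]
    obtain ⟨k, hk⟩ := IsPGroup.iff_card.1 hV
    rw [hk]
    exact Nat.Coprime.pow_left k (Nat.coprime_two_left.2 hX)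
  have htR : t ∈ R ⊔ V := mem_sup_right htV
  have hsR : s ∈ R ⊔ V := mem_sup_right hsV
  have hdR : t * y1 ∈ R ⊔ V := mul_mem htR (mem_sup_left hy1)
  have ht1R : t1 ∈ R ⊔ V :=
    ((R ⊔ V).mul_mem_cancel_right hsR).1 (zpowers_le_of_mem (mul_mem hsR hdR) hw)
  by_cases hpf : p ∣ (fixedBy Ω s).ncard
  · have h1 : t1 * (t * y1) ∈ R :=
      hVR.le ⟨mul_mem ht1R hdR, h.pss.mul_mem_Opp hα.symm ht1 hd⟩
    obtain ⟨k, hk⟩ := isPGroup_iff.1 hR.pgrp _ h1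
    have h2 : t1 * (t * y1) = 1 := by
      by_contra h2
      have h3 := h.dvd_of_inverted hp hk h2 (hRo _ h1) (u := t1 * s) (δ := α)
        (mul_mem (mem_C.2 (by rw [mul_assoc, ← mem_C.1 ht1s])) hdw) (Opp_le (hR.le h1)).1 ht1.1
        (ht1.2 ▸ hα) (h.inverts_mul ht1.1 hd.1)
      rw [T.ncard_block h ht1.1 ht1s (T.mul_smul_eq h ht1).1 (T.mul_smul_eq h ht1).1 ha] at h3
      exact hcop ⟨hpf, h3⟩
    rw [← h.ps.inv_eq ht1.1, inv_mul_eq_one] at h2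
    exact T.pt_injOn h hα.symm ⟨hd, h2 ▸ ht1s⟩ ⟨ht, hts⟩ hdt
  · have h1 : t * t1 ∈ R := hVR.le ⟨mul_mem htR ht1R, h.pss.mul_mem_Opp hα.symm ht ht1⟩
    obtain ⟨k, hk⟩ := isPGroup_iff.1 hR.pgrp _ h1
    have h2 : t * t1 ∈ C s := mul_mem hts ht1s
    obtain ⟨δ, hδ, h3⟩ := exists_of_modEq (ncard_modEq_smul (Z := fixedBy Ω s) hp hk fun x hx => by
      rw [mem_fixedBy, ← mul_smul, ← mem_C.1 h2, mul_smul, hx]) hpf
    have h4 : t1 = t := by
      by_cases hδt : δ = pt t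
      · refine T.pt_injOn h hα.symm ⟨ht1, ht1s⟩ ⟨ht, hts⟩ (h.ps.eq_pt ht1.1 ?_)
        rw [hδt, mul_smul] at h3
        exact (h.ps.swap ht.1 h3).symm.trans (h.ps.smul_pt ht.1)
      obtain ⟨t2, ht2, rfl⟩ := T.surj_of_m_eq h hα hm hα hδ
      have h5 := T.pt_injOn h hα.symm ⟨h.pss.conj_mem_sw ht2.1 (St2_le_Sw2 _ _ (Opp_le (hR.le h1))),
        mul_mem (mul_mem h2 ht2.2) (inv_mem h2)⟩ ht2 (by rw [h.ps.pt_conj ht2.1.1, h3])
      have h6 := h.pss.not_commute_of_inverted ht.1 (h.ps.smul_ne ht.1 hδt) h3 (hRo _ h1)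
        (h.inverts_mul ht.1 ht1.1) ht2.1.1 rfl (mul_inv_eq_iff_eq_mul.1 h5)
      rw [← h.ps.inv_eq ht.1, inv_mul_eq_one] at h6
      exact h6.symm
    subst h4
    exact (T.mul h ht.1 hts).pt_injOn h hα.symm ⟨hd, hdw⟩
      ⟨ht, mem_C.2 (by rw [mul_assoc, ← mem_C.1 hts])⟩ hdt

theorem m_ne_f (h : HypC Ω D pt) (T : TII D s) {α : Ω} (hα : s • α ≠ α) {a : Ω} (ha : s • a = a)
    {e i : ℕ} (hc : (sw D a a ∩ C s).ncard + 1 = 2 ^ e) (hf : (fixedBy Ω s).ncard = (2 ^ e) ^ i + 1) :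
    (sw D α (s • α) ∩ C s).ncard ≠ (fixedBy Ω s).ncard := by
  intro hm
  have := h.finite
  have : Fact (Nat.Prime 2) := ⟨Nat.prime_two⟩
  have hN : Nat.card Ω - 1 = 2 ^ (e + e * i) := by
    have h1 := T.count h hα ha
    have h4 : (fixedBy Ω s).ncard ≤ Nat.card Ω := Set.ncard_le_card _
    rw [hm, mul_comm, mul_assoc] at h1
    have h2 := Nat.eq_of_mul_eq_mul_left (by rw [hf]; positivity) h1
    rw [hf, Nat.add_sub_cancel] at h2
    rw [pow_add, pow_mul, ← hc, add_mul, hc, ← h2]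
    omega
  obtain ⟨t, ht, hts⟩ := T.exists_T h hα
  have key : ∀ d ∈ D, ∀ y : G, Odd (orderOf y) → y • pt d = pt d → d * y * d⁻¹ = y⁻¹ → y = 1 := by
    intro d hd y0 hodd0 hyd0 hinv0
    by_contra hy1
    obtain ⟨p, hp, hpd⟩ := Nat.exists_prime_and_dvd (fun e1 => hy1 (orderOf_eq_one_iff.1 e1))
    have hpo : Odd p := hodd0.of_dvd_nat hpd
    have hp2 : ¬ p ∣ 2 := fun h2 => by
      rw [(Nat.prime_dvd_prime_iff_eq hp Nat.prime_two).1 h2] at hpo; exact absurd hpo (by decide)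
    have hy := orderOf_pow_orderOf_div (orderOf_pos y0).ne' hpd
    have hyd : (y0 ^ (orderOf y0 / p)) • pt d = pt d := (stabilizer G (pt d)).pow_mem hyd0 _
    have hinv : d * y0 ^ (orderOf y0 / p) * d⁻¹ = (y0 ^ (orderOf y0 / p))⁻¹ := by
      rw [← conj_pow, hinv0, inv_pow]
    generalize y0 ^ (orderOf y0 / p) = y at hy hyd hinv
    have hyp : y ^ p = 1 := hy ▸ pow_orderOf_eq_one y
    obtain ⟨β, hβ, hyβ⟩ := exists_of_modEq (ncard_modEq_smul (Z := {pt d}ᶜ) (k := 1) hp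
      (by rwa [pow_one]) fun x hx e1 => hx (smul_left_cancel y (e1.trans hyd.symm))) (by
        rw [Set.ncard_compl, Set.ncard_singleton, hN]
        exact fun h2 => hp2 (hp.dvd_of_dvd_pow h2))
    obtain ⟨g, h1, h2⟩ := T.two_trans h hα hm (h.ps.smul_ne hd hβ).symm hα.symm
    have hd' := h.ps.conj_mem_sw (show d ∈ sw D β (d • β) from ⟨hd, rfl⟩) g
    rw [h1, h2] at hd'
    obtain ⟨x, hx, e1⟩ := h.pss.exists_conj_sw hα.symm hd' ht
    have hx' := mem_St2.1 (zpowers_le_of_mem (h.pss.mul_mem_St2 hd' ht) hx)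
    have e2 : x * g * d * (x * g)⁻¹ = t := by rw [← e1]; group
    have hydβ : y • d • β = d • β := by
      rw [smul_eq_iff_eq_inv_smul, ← hinv, mul_smul, inv_smul_smul, mul_smul, hyβ]
    have h3 := T.core h hα hm hp ha (fun h3 => hp2 ?_) ht hts (y := x * g * y * (x * g)⁻¹)
      (by rw [conj_pow, hyp]; simp) (by rw [orderOf_conj', hy]; exact hpo)
      (mem_St2.2 ⟨by rw [← hx'.1, ← h1, ← mul_smul x g, mul_smul _ (x * g)⁻¹, inv_smul_smul, mul_smul, hyβ],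
        by rw [← hx'.2, ← h2, ← mul_smul x g, mul_smul _ (x * g)⁻¹, inv_smul_smul, mul_smul, hydβ]⟩)
      (by
        rw [← e2]
        calc _ = x * g * (d * y * d⁻¹) * (x * g)⁻¹ := by group
          _ = _ := by rw [hinv]; group)
      (by rw [← e2, h.ps.pt_conj hd, mul_smul _ (x * g)⁻¹, inv_smul_smul, mul_smul, hyd])
    · rw [mul_inv_eq_one, mul_eq_left] at h3
      rw [h3, orderOf_one] at hy
      exact hp.one_lt.ne hy
    · have h4 : 2 ^ e ≡ 1 [MOD p] := by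
        rw [← hc]
        exact (Nat.modEq_zero_iff_dvd.2 h3.2).add_right 1
      have h5 := (h4.pow i).add_right 1
      rw [one_pow, ← hf] at h5
      exact (h5.dvd_iff dvd_rfl).1 h3.1
  obtain ⟨S, hS⟩ := exists_sylow_fix h.pss a
  obtain ⟨d, hd, hdS⟩ := h.pss.exists_cent S.isPGroup' hS hS
  have hda := h.ps.eq_pt hd.1 hd.2
  obtain ⟨N, hNn, hN2, hdN⟩ := Inv.exists_normal_of_not_inverts
    (t := (⟨d, hd.2⟩ : stabilizer G a)) (by rw [← h.ps.inv d hd.1]; exact orderOf_mk d hd.2)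
    fun x hx e1 => Subtype.ext (key d hd.1 x (by rwa [orderOf_coe]) (hda ▸ x.2)
      (congrArg Subtype.val e1))
  have hNS : N.map (stabilizer G a).subtype ≤ S :=
    (isSyl_of_le S (L := stabilizer G a) hS).le_of_le_normalizer (hN2.map _) (map_subtype_le _)
      (le_trans hS (le_normalizer_map_subtype N))
  obtain ⟨b, hb, hba⟩ : ∃ b ∈ D, pt b ≠ pt d := by
    obtain ⟨b, hb, rfl⟩ := h.surj α
    exact ⟨b, hb, fun e1 => hα (by rw [e1, hda, ha])⟩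
  have hcomm : ∀ z ∈ D, pt z = a → d * z = z * d := fun z hz hza => by
    obtain ⟨k, -, h1, -, rfl⟩ := h.pss.exists_conj_fix (M := ⊤) hd.1 hz hb trivial trivial trivial
      (hza.trans hda.symm) hba
    rw [hda] at h1
    exact (hdS _ (hNS ⟨_, hNn.conj_mem _ hdN ⟨k, h1⟩, rfl⟩)).symm
  refine h.not_comm a fun z hz w hw hza hwa => ?_
  obtain ⟨k, -, h1, -, rfl⟩ := h.pss.exists_conj_fix (M := ⊤) hd.1 hz hb trivial trivial trivial
    (hza.trans hda.symm) hba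
  have h2 := hcomm _ (h.ps.conj w hw k⁻¹) (by rw [h.ps.pt_conj hw, hwa, inv_smul_eq_iff, ← hda, h1])
  calc k * d * k⁻¹ * w = k * (d * (k⁻¹ * w * k⁻¹⁻¹)) * k⁻¹ := by group
    _ = w * (k * d * k⁻¹) := by rw [h2]; group

end TII

/-- [II]: no involution outside `D` centralises two distinct commuting members of `D`. -/
theorem HypC.not_typeII (h : HypC Ω D pt) {s : G} (hs : Invol s) (hD : s ∉ D) (hr : Rk2 D (C s)) :
    False := by
  obtain ⟨s, a, b, R, W, hmax⟩ := h.exists_max ⟨hs, hD, hr⟩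
  have T := W.tii
  have hpure := h.pure_C T.inv T.nmem
  obtain ⟨Q, e, i, B⟩ := T.bs h W.fa
  have hc := B.card_inv
  have hf := B.card_OM
  rw [h.IA_eq hpure] at hc
  rw [h.OM_eq T.inv T.nmem] at hf
  have he2 := B.two_le
  have hq4 : 4 ≤ 2 ^ e := Nat.pow_le_pow_right two_pos he2
  obtain ⟨α, hα⟩ := h.exists_moved T.inv.1
  have hi : 1 ≤ i := by rcases B.icases with h | h | h <;> omega
  have h1 := h.m_modEq W hmax he2 hi hc hf hα
  have h2 := T.m_le h hα.symm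
  have h3 := T.m_ne_one h hα
  have h4 := T.m_ne_f h hα W.fa hc hf
  have hodd : Odd (sw D α (s • α) ∩ C s).ncard := by
    have := h.pss.odd_ncard_sw a a
    rw [T.n_eq h hα W.fa] at this
    exact (Nat.odd_mul.1 this).1
  have h5 : (sw D α (s • α) ∩ C s).ncard ∣ ((2 ^ e) ^ i + 1) * (2 ^ e - 1) := by
    have h6 := T.count h hα W.fa
    rw [hf, Nat.add_sub_cancel, (by omega : (sw D a a ∩ C s).ncard = 2 ^ e - 1), ← pow_mul] at h6
    rw [← pow_mul]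
    exact (Nat.Coprime.pow_right _ (Nat.coprime_two_right.2 hodd)).dvd_of_dvd_mul_right
      (Dvd.intro_left _ h6)
  rw [hf] at h2 h4
  rcases B.icases with rfl | rfl | ⟨rfl, -⟩
  · rw [pow_one] at h2 h4
    obtain ⟨k, hk⟩ := (Nat.modEq_iff_dvd' hodd.pos).1 h1.symm
    have := hodd.pos
    rcases k with _ | _ | k
    · omega
    · omega
    · have : 2 ^ e * 2 ≤ 2 ^ e * (k + 1 + 1) := Nat.mul_le_mul_left _ (by omega)
      omega
  · rcases num_two hq4 (Nat.even_pow.2 ⟨even_two, by omega⟩) h1 h2 h5 with h6 | h6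
    exacts [h3 h6, h4 h6]
  · have hbs : ∀ c : Ω, s • c = c → ∃ Q, BS (LM D (C s)) c Q e 3 := fun c hcs => by
      obtain ⟨Q', e', i', B'⟩ := T.bs h hcs
      have h6 := B'.card_inv
      have h7 := B'.card_OM
      rw [h.IA_eq hpure, h.ncard_sw_C T.inv hcs hcs W.fa W.fa, hc] at h6
      obtain rfl := Nat.pow_right_injective le_rfl h6
      rw [B.card_OM] at h7
      obtain rfl := Nat.pow_right_injective (by omega : 2 ≤ 2 ^ e) (Nat.add_right_cancel h7)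
      exact ⟨Q', B'⟩
    rcases num_three he2 rfl h1 h5 (fun p hp hd => T.prime_dvd h hα hbs hp hd (by
      rintro rfl
      exact (Nat.not_even_iff_odd.2 hodd) (even_iff_two_dvd.2 hd))) with h6 | h6
    exacts [h3 h6, T.m_ne_succ h hα W.fa B h6]

end Cfsg.Agent.Core3
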