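import Mathlib
import Cfsg.Agent.Core2.PTwo
import Cfsg.Agent.Core2.PDefs
import Cfsg.Agent.Core2.PCE
import Cfsg.Agent.Core2.PTypeI
import Cfsg.Agent.Core3.TypeII
import Cfsg.Agent.Core3.LemX

/-! Theorem P: a class of involutions with unique fixed points and odd products, closed under
commuting products, contains every involution of the subgroup it generates. -/

set_option autoImplicit false
set_option linter.unusedSectionVars false
set_option linter.unusedVariables false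
set_option linter.style.haveILetI false

namespace Cfsg.Agent.Core3

open Subgroup MulAction Cfsg.Agent.PLocal.Amb Cfsg.Agent.RankOne Cfsg.Agent.Suz Cfsg.Agent.Bender
open Cfsg.Agent.Core2

namespace ThmP

universe u v

variable {G : Type u} {Ω : Type v} [Group G] [Finite G] [MulAction G Ω] {D : Set G} {pt : G → Ω}

theorem twoPt_of (h : PSS Ω D pt) (hnt : ∃ a b : Ω, a ≠ b) : TwoPt D pt ⊤ := by
  obtain ⟨a, b, hab⟩ := hnt
  obtain ⟨d, hd, rfl⟩ := h.surj a
  obtain ⟨e, he, rfl⟩ := h.surj b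
  exact ⟨d, hd, e, he, trivial, trivial, hab⟩

theorem not_mem_of_fix (h : PS Ω D pt) (hnt : ∃ a b : Ω, a ≠ b) {g : G} (hg : ∀ a : Ω, g • a = a) :
    g ∉ D := fun hd => by
  obtain ⟨a, b, hab⟩ := hnt
  exact hab ((h.eq_pt hd (hg a)).symm.trans (h.eq_pt hd (hg b)))

theorem mem_of_odd (h : PS Ω D pt) {d x : G} (hd : d ∈ D) (hx : x * x = 1)
    (ho : Odd (orderOf (d * x))) : x ∈ D := by
  have := h.mul_mem_of_inverts hd ho (Inv.conj_mul_eq_inv_left (h.sq hd) hx)
  rwa [← mul_assoc, h.sq hd, one_mul] at this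

/-- The central involution of a dihedral group generated by two members of `D` lies in `D`. -/
theorem exists_central (h : PS Ω D pt) (hpc : PC D) {d e : G} (hd : d ∈ D) (he : e ∈ D)
    (hev : Even (orderOf (d * e))) : ∃ w ∈ zpowers (d * e), w ∈ D := by
  obtain ⟨w, hw, hw2, h1, -⟩ := Inv.exists_central_involution_of_even (h.sq hd) (h.sq he) hev
  have h3 := hpc d hd _ (h.mul_mem_of_zpowers hd he hw) (by rw [mul_assoc, h1.eq])
    fun e1 => (invol_iff_orderOf.2 hw2).1 (left_eq_mul.1 e1)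
  rw [← mul_assoc, h.sq hd, one_mul] at h3
  exact ⟨w, hw, h3⟩

/-- The statement proved by induction. -/
def Claim (n : ℕ) : Prop :=
  ∀ (G : Type u) (Ω : Type v) [Group G] [Finite G] [MulAction G Ω] (D : Set G) (pt : G → Ω),
    Nat.card G = n → PS Ω D pt → NOdd D pt → PC D → TwoPt D pt ⊤ →
      ∀ x ∈ closure D, Invol x → x ∈ D

/-- Passage to an image of `G` acting compatibly. -/
theorem image {X : Type u} [Group X] [Finite X] [MulAction X Ω] {φ : G →* X}
    (hφ : Function.Surjective φ) (hc : ∀ (g : G) (c : Ω), φ g • c = g • c)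
    (ih : Claim.{u, v} (Nat.card X)) (h : PSS Ω D pt) (hpc : PC D) (hnt : ∃ a b : Ω, a ≠ b)
    (hgen : closure D = ⊤) {x : X} (hx : Invol x) : ∃ d ∈ D, φ d = x := by
  classical
  have hps := h.ps
  have hker : ∀ g : G, φ g = 1 → g ∉ D := fun g hg =>
    not_mem_of_fix hps hnt fun a => by rw [← hc, hg, one_smul]
  let pt' : X → Ω := fun y => if hy : y ∈ φ '' D then pt hy.choose else hnt.choose
  have hpt : ∀ d ∈ D, pt' (φ d) = pt d := fun d hd => by
    have hy : φ d ∈ φ '' D := ⟨d, hd, rfl⟩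
    simp only [pt', dif_pos hy]
    refine hps.eq_pt hy.choose_spec.1 ?_
    rw [← hc, hy.choose_spec.2, hc, hps.smul_pt hd]
  have hinv : ∀ d ∈ D, Invol (φ d) := fun d hd =>
    ⟨fun e => hker d e hd, by rw [← map_mul, hps.sq hd, map_one]⟩
  have hX : PS Ω (φ '' D) pt' := by
    refine ⟨?_, ?_, ?_, ?_⟩
    · rintro _ ⟨d, hd, rfl⟩
      exact invol_iff_orderOf.1 (hinv d hd)
    · rintro _ ⟨d, hd, rfl⟩ g
      obtain ⟨g, rfl⟩ := hφ g
      exact ⟨_, hps.conj d hd g, by rw [map_mul, map_mul, map_inv]⟩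
    · rintro _ ⟨d, hd, rfl⟩ a
      rw [hc, hpt d hd]
      exact hps.fix d hd a
    · rintro _ ⟨d, hd, rfl⟩ _ ⟨e, he, rfl⟩ hne
      rw [hpt d hd, hpt e he] at hne
      rw [← map_mul]
      exact (hps.odd d hd e he hne).of_dvd_nat (orderOf_map_dvd φ _)
  refine ih X Ω (φ '' D) pt' rfl hX ?_ ?_ ?_ x ?_ hx
  · rintro _ ⟨d, hd, rfl⟩
    obtain ⟨e, he, hne⟩ : ∃ e ∈ D, pt d ≠ pt e := by
      obtain ⟨a, ha, b, hb, -, -, hab⟩ := twoPt_of h hnt
      by_cases hda : pt d = pt a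
      · exact ⟨b, hb, hda ▸ hab⟩
      · exact ⟨a, ha, hda⟩
    rw [← hX.ncard_sw ⟨d, hd, rfl⟩ ⟨e, he, rfl⟩]
    obtain ⟨t, ht, hta⟩ := hX.exists_swap ⟨d, hd, rfl⟩ ⟨e, he, rfl⟩
    refine PS.odd_ncard_of_unique (hX.inv t ht) ⟨ht, hta⟩ (fun y hy => ?_) fun y hy hcm => ?_
    · have := hX.conj_mem_sw hy t
      rwa [hta, hX.swap ht hta, hX.sw_comm] at this
    · obtain ⟨t, ht', rfl⟩ := ht
      obtain ⟨⟨y, hy', rfl⟩, hy2⟩ := hy
      rw [hpt d hd, hpt e he, hc] at hta hy2
      refine (eq_of_commute_of_odd (hinv t ht') (hinv y hy') hcm ?_).symm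
      rw [← map_mul]
      exact (h.odd_mul hne ⟨ht', hta⟩ ⟨hy', hy2⟩).of_dvd_nat (orderOf_map_dvd φ _)
  · rintro _ ⟨d, hd, rfl⟩ _ ⟨e, he, rfl⟩ hcm hne
    have h1 := (hinv d hd).mul (hinv e he) hne hcm
    rw [← map_mul] at h1 ⊢
    have h2 : Even (orderOf (d * e)) := by
      rw [even_iff_two_dvd, ← invol_iff_orderOf.1 h1]
      exact orderOf_map_dvd φ _
    obtain ⟨w, ⟨k, rfl⟩, hw⟩ := exists_central hps hpc hd he h2
    refine ⟨_, hw, ?_⟩
    have h3 : φ (d * e) ^ (2 : ℤ) = 1 := by rw [zpow_two, h1.2]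
    rcases Int.even_or_odd' k with ⟨j, rfl | rfl⟩
    · exact absurd hw (hker _ (by simp only; rw [map_zpow, zpow_mul, h3, one_zpow]))
    · simp only
      rw [map_zpow, zpow_add_one, zpow_mul, h3, one_zpow, one_mul]
  · obtain ⟨a, ha, b, hb, -, -, hab⟩ := twoPt_of h hnt
    exact ⟨_, ⟨a, ha, rfl⟩, _, ⟨b, hb, rfl⟩, trivial, trivial, by rwa [hpt a ha, hpt b hb]⟩
  · rw [← MonoidHom.map_closure, hgen, map_top_of_surjective φ hφ]
    trivial

theorem quot {n : ℕ} (ih : ∀ m < n, Claim.{u, v} m) (hn : Nat.card G = n) (h : PSS Ω D pt) (hpc : PC D)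
    (hnt : ∃ a b : Ω, a ≠ b) (hgen : closure D = ⊤) (K : Subgroup G) [K.Normal] (hK : K ≠ ⊥)
    (hfix : ∀ g ∈ K, ∀ a : Ω, g • a = a) {x : G} (hx : x ∉ K) (hx2 : x * x ∈ K) :
    ∃ d ∈ D, d * x ∈ K := by
  letI : MulAction (G ⧸ K) Ω := MulAction.compHom Ω
    (QuotientGroup.lift K (toPermHom G Ω) fun g hg => Equiv.ext (hfix g hg))
  have hlt : Nat.card (G ⧸ K) < n := by
    rw [← hn, card_eq_card_quotient_mul_card_subgroup K]
    exact lt_mul_of_one_lt_right Nat.card_pos ((one_lt_card_iff_ne_bot K).2 hK)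
  obtain ⟨d, hd, e⟩ := image (φ := QuotientGroup.mk' K) (QuotientGroup.mk'_surjective K) (fun g c => rfl)
    (ih _ hlt) h hpc hnt hgen (x := QuotientGroup.mk' K x)
    ⟨fun e => hx ((QuotientGroup.eq_one_iff x).1 e), by
      rw [← map_mul]; exact (QuotientGroup.eq_one_iff _).2 hx2⟩
  refine ⟨d, hd, ?_⟩
  rw [← h.ps.inv_eq hd]
  exact QuotientGroup.eq.1 e

/-- A normal subgroup `N` missing `D` satisfies `[D, N] ≤ O(N)`. -/
theorem comm_mem (h : PS Ω D pt) (hpc : PC D) (N : Subgroup G) [hN : N.Normal] (hD : ∀ d ∈ D, d ∉ N)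
    {z g : G} (hz : z ∈ D) (hg : g ∈ N) : z * g * z⁻¹ * g⁻¹ ∈ Opp 2 N := by
  let M : Subgroup G :=
    { carrier := {x | x * z * x⁻¹ * z⁻¹ ∈ N}
      one_mem' := by simp
      mul_mem' := fun {x y} hx hy => by
        have := N.mul_mem (hN.conj_mem _ hy x) hx
        rw [show x * (y * z * y⁻¹ * z⁻¹) * x⁻¹ * (x * z * x⁻¹ * z⁻¹) = x * y * z * (x * y)⁻¹ * z⁻¹ by group]
          at this
        exact this
      inv_mem' := fun {x} hx => by
        have := hN.conj_mem _ (N.inv_mem hx) x⁻¹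
        rw [show x⁻¹ * (x * z * x⁻¹ * z⁻¹)⁻¹ * x⁻¹⁻¹ = x⁻¹ * z * x⁻¹⁻¹ * z⁻¹ by group] at this
        exact this }
  have hNM : N ≤ M := fun x hx => by
    have := N.mul_mem hx (hN.conj_mem _ (N.inv_mem hx) z)
    rw [show x * (z * x⁻¹ * z⁻¹) = x * z * x⁻¹ * z⁻¹ by group] at this
    exact this
  have h1 : z * g * z⁻¹ * g⁻¹ ∈ Opp 2 M := by
    refine zstar_amb (N := M) (show z * z * z⁻¹ * z⁻¹ ∈ N by simp) (h.invol hz) (fun x hx hc => ?_) (hNM hg)
    by_contra hne
    refine hD _ (hpc _ (h.conj z hz x) z hz hc.symm hne) ?_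
    have : x * z * x⁻¹ * z⁻¹ ∈ N := hx
    rwa [h.inv_eq hz] at this
  refine le_Opp_of_normal (U := Opp 2 M ⊓ N) inf_le_right ?_ ?_
    ⟨h1, N.mul_mem (hN.conj_mem _ hg z) (N.inv_mem hg)⟩
  · rw [le_normalizer_iff_cj]
    intro y hy
    rw [cj_le_iff]
    intro x hx
    rw [mem_cj, inv_inv]
    exact ⟨conj_mem_of_mem_normalizer (normalizer_le_normalizer_Opp (le_normalizer (hNM hy))) hx.1,
      hN.conj_mem _ hx.2 y⟩
  · exact Nat.Coprime.of_dvd_left (card_dvd_of_le inf_le_left) coprime_card_Opp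

theorem normal_Opp (N : Subgroup G) [hN : N.Normal] : (Opp 2 N).Normal := by
  refine ⟨fun x hx g => conj_mem_of_mem_normalizer (normalizer_le_normalizer_Opp ?_) hx⟩
  rw [normalizer_eq_top]; trivial

theorem central (h : PS Ω D pt) (hpc : PC D) (hgen : closure D = ⊤) (N : Subgroup G) [hN : N.Normal]
    (hD : ∀ d ∈ D, d ∉ N) (hO : Opp 2 N = ⊥) {g : G} (hg : g ∈ N) (x : G) : x * g = g * x := by
  have : closure D ≤ C g := (closure_le _).2 fun z hz => by
    have := comm_mem h hpc N hD hz hg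
    rw [hO, mem_bot, mul_inv_eq_one, mul_inv_eq_iff_eq_mul] at this
    exact mem_centralizer_singleton_iff.2 this
  exact mem_centralizer_singleton_iff.1 (this (hgen ▸ mem_top x))

theorem rank_one (h : PS Ω D pt) (h2 : TwoPt D pt ⊤) (hr : ¬ Rk2 D ⊤) {x : G} (hx : x ∈ closure D)
    (hx2 : Invol x) : x ∈ D := by
  obtain ⟨z, hz, -⟩ := id h2
  have hN := normal_Opp (⊤ : Subgroup G)
  set O := Opp 2 (⊤ : Subgroup G) with hO
  have h1 : ∀ d ∈ D, z * d ∈ O := fun d hd => by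
    obtain ⟨g, -, rfl⟩ := h.exists_conj_LM h2 hz hd trivial trivial
    have := zstar_amb (N := ⊤) trivial (h.invol hz) (fun y _ hc => by
      by_contra hne
      exact hr ⟨_, h.conj z hz y, z, hz, trivial, trivial, hne, hc.symm⟩) (g := g) trivial
    rwa [h.inv_eq hz, mul_assoc, mul_assoc, ← mul_assoc g] at this
  have h3 : x ∈ O ∨ z * x ∈ O := by
    clear hx2
    induction hx using closure_induction with
    | mem d hd => exact Or.inr (h1 d hd)
    | one => exact Or.inl O.one_mem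
    | mul a b _ _ ha hb =>
      rcases ha with ha | ha <;> rcases hb with hb | hb
      · exact Or.inl (O.mul_mem ha hb)
      · refine Or.inr ?_
        have := O.mul_mem (hN.conj_mem _ ha z) hb
        rwa [show z * a * z⁻¹ * (z * b) = z * (a * b) by group] at this
      · exact Or.inr (by rw [← mul_assoc]; exact O.mul_mem ha hb)
      · refine Or.inl ?_
        have := O.mul_mem (hN.conj_mem _ ha z) hb
        rwa [show z * (z * a) * z⁻¹ * (z * b) = z * z * (a * b) by group, h.sq hz, one_mul] at this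
    | inv a _ ha =>
      rcases ha with ha | ha
      · exact Or.inl (O.inv_mem ha)
      · refine Or.inr ?_
        have := hN.conj_mem _ (O.inv_mem ha) z
        rwa [show z * (z * a)⁻¹ * z⁻¹ = z * a⁻¹ * (z * z)⁻¹ by group, h.sq hz, inv_one, mul_one] at this
  rcases h3 with h3 | h3
  · exact absurd h3 (hx2.not_mem_of_odd (odd_card_Opp _))
  · exact mem_of_odd h hz hx2.2 (odd_orderOf_of_mem (odd_card_Opp _) h3)

theorem simple (h : PSS Ω D pt) (hpc : PC D) (hnt : ∃ a b : Ω, a ≠ b) (hgen : closure D = ⊤)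
    (hr : Rk2 D ⊤) (hf : ∀ g : G, (∀ a : Ω, g • a = a) → g = 1) : IsSimpleGroup G := by
  have hps := h.ps
  have h2 := twoPt_of h hnt
  obtain ⟨d, hd, e, he, -, -, hde, hc⟩ := hr
  have : Nontrivial G := ⟨⟨d, e, hde⟩⟩
  refine ⟨fun N hN => ?_⟩
  by_cases hD : ∃ z ∈ D, z ∈ N
  · obtain ⟨z, hz, hzN⟩ := hD
    refine Or.inr (top_le_iff.1 (hgen ▸ (closure_le _).2 fun w hw => ?_))
    obtain ⟨g, -, rfl⟩ := hps.exists_conj_LM h2 hz hw trivial trivial
    exact hN.conj_mem _ hzN g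
  push Not at hD
  have hON := normal_Opp N
  have hO : Opp 2 N = ⊥ := by
    have hA := Misc.isKleinFour_closure_pair (hps.sq hd) (hps.sq he) hc (hps.ne_one hd) (hps.ne_one he) hde
    have hsq := Misc.sq_eq_one_of_mem_closure_pair (hps.sq hd) (hps.sq he) hc
    have hcm := Misc.comm_of_sq hsq
    have : IsMulCommutative (closure ({d, e} : Set G)) := Misc.isMulCommutative_iff'.2 hcm
    have hmem : ∀ w ∈ closure ({d, e} : Set G), w = 1 ∨ w ∈ D := by
      intro w hw
      induction hw using closure_induction with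
      | mem w hw => rcases hw with rfl | rfl; exacts [Or.inr hd, Or.inr he]
      | one => exact Or.inl rfl
      | mul a b ha hb ha' hb' =>
        rcases ha' with rfl | ha'
        · rwa [one_mul]
        rcases hb' with rfl | hb'
        · rw [mul_one]; exact Or.inr ha'
        by_cases e1 : a = b
        · exact Or.inl (e1 ▸ hps.sq ha')
        · exact Or.inr (hpc a ha' b hb' (hcm a ha b hb) e1)
      | inv a _ ha =>
        rcases ha with rfl | ha
        · exact Or.inl inv_one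
        · exact Or.inr (by rwa [hps.inv_eq ha])
    have hle : Opp 2 N ≤ stabilizer G (pt d) := by
      refine Solv.le_of_centralizers_le (closure ({d, e} : Set G)) (Opp 2 N) IsKleinFour.not_isCyclic
        (by rw [normalizer_eq_top]; exact le_top) ?_ _ fun w hw hw1 g hg => ?_
      · rw [hA.card_four]
        exact (Nat.Coprime.pow_left 2 (Nat.coprime_two_left.2 (odd_card_Opp N)))
      · have hw' := (hmem w hw).resolve_left hw1
        rw [mem_stabilizer_iff, ← hps.pt_eq_of_commute hw' hd (hcm w hw d (subset_closure (Or.inl rfl)))]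
        exact hps.smul_pt_of_commute hw' (mem_centralizer_singleton_iff.1 hg.2)
    refine (eq_bot_iff_forall _).2 fun g hg => hf g fun a => ?_
    obtain ⟨t, -, rfl⟩ := h.exists_swap (pt d) a
    have : (t⁻¹ * g * t) • pt d = pt d := hle (by simpa using hON.conj_mem g hg t⁻¹)
    rwa [mul_smul, mul_smul, inv_smul_eq_iff] at this
  refine Or.inl ((eq_bot_iff_forall _).2 fun g hg => hf g fun a => ?_)
  obtain ⟨z, hz, rfl⟩ := h.surj a
  exact hps.smul_pt_of_commute hz (central hps hpc hgen N hD hO hg z).symm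

theorem good {n : ℕ} (ih : ∀ m < n, Claim.{u, v} m) (hn : Nat.card G = n) (h : PS Ω D pt)
    (hno : NOdd D pt) (hpc : PC D) (M : Subgroup G) (hM : M ≠ ⊤) (h2 : TwoPt D pt M) :
    Pure D (LM D M) := by
  intro x hx hx2
  obtain ⟨d, hd, e, he, hdM, heM, hne⟩ := h2
  have hlt : Nat.card M < n := by
    rw [← hn, ← card_top (G := G)]
    exact Grp.card_lt_of_lt (lt_top_iff_ne_top.2 hM)
  have h1 : LM D M = (closure (res D M)).map M.subtype := by
    rw [MonoidHom.map_closure, LM]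
    congr 1
    ext y
    exact ⟨fun hy => ⟨⟨y, hy.2⟩, hy.1, rfl⟩, by rintro ⟨y, hy, rfl⟩; exact ⟨hy, y.2⟩⟩
  rw [h1] at hx
  obtain ⟨x, hx, rfl⟩ := hx
  exact ih _ hlt M Ω (res D M) (fun y => pt y) rfl (h.subgroup M) (h.nOdd_subgroup hno M hd he hdM heM hne)
    (fun a ha b hb hc hab => hpc a ha b hb (congrArg Subtype.val hc) fun e1 => hab (Subtype.ext e1))
    ⟨⟨d, hdM⟩, hd, ⟨e, heM⟩, he, trivial, trivial, hne⟩ x hx
    ⟨fun e1 => hx2.1 (congrArg Subtype.val e1), Subtype.ext hx2.2⟩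

theorem core {n : ℕ} (ih : ∀ m < n, Claim.{u, v} m) (hn : Nat.card G = n) (h : PSS Ω D pt)
    (hpc : PC D) (hnt : ∃ a b : Ω, a ≠ b) {x : G} (hx : x ∈ closure D) (hx2 : Invol x) : x ∈ D := by
  have hps := h.ps
  have h2 := twoPt_of h hnt
  by_cases hgen : closure D = ⊤
  swap
  · refine good ih hn hps h.nodd hpc _ hgen ?_ x ?_ hx2
    · obtain ⟨d, hd, e, he, -, -, hne⟩ := h2
      exact ⟨d, hd, e, he, subset_closure hd, subset_closure he, hne⟩
    · exact Subgroup.closure_mono (k := D ∩ closure D) (fun d hd => ⟨hd, Subgroup.subset_closure hd⟩) hx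
  by_cases hr : Rk2 D ⊤
  swap
  · exact rank_one hps h2 hr hx hx2
  set N := (toPermHom G Ω).ker with hN
  have hmN : ∀ g, g ∈ N ↔ ∀ a : Ω, g • a = a := fun g =>
    ⟨fun hg a => Equiv.ext_iff.1 (MonoidHom.mem_ker.1 hg) a, fun hg => MonoidHom.mem_ker.2 (Equiv.ext hg)⟩
  have hDN : ∀ d ∈ D, d ∉ N := fun d hd hdN => not_mem_of_fix hps hnt ((hmN d).1 hdN) hd
  have hON := normal_Opp N
  by_cases hO : Opp 2 N = ⊥
  swap
  · obtain ⟨d, hd, e⟩ := quot ih hn h hpc hnt hgen (Opp 2 N) hO (fun g hg => (hmN g).1 (Opp_le hg))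
      (hx2.not_mem_of_odd (odd_card_Opp N)) (hx2.2 ▸ one_mem _)
    exact mem_of_odd hps hd hx2.2 (odd_orderOf_of_mem (odd_card_Opp N) e)
  have hcen := fun g (hg : g ∈ N) => central hps hpc hgen N hDN hO hg
  have hodd : ∀ g ∈ N, Odd (orderOf g) → g = 1 := fun g hg ho => by
    have : zpowers g ≤ Opp 2 N := by
      refine le_Opp_of_normal (zpowers_le_of_mem hg) (fun y _ => centralizer_le_normalizer _ ?_) ?_
      · rw [PLocal.Amb.centralizer_zpowers]
        exact mem_centralizer_singleton_iff.2 (hcen g hg y)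
      · rw [Nat.card_zpowers]; exact Nat.coprime_two_right.2 ho
    rw [hO] at this
    exact this (mem_zpowers g)
  by_cases hev : ∃ w ∈ N, Invol w
  · exfalso
    obtain ⟨w, hw, hw2⟩ := hev
    have hz : ∀ y, y ∈ zpowers w ↔ y = 1 ∨ y = w := fun y => by
      refine ⟨?_, by rintro (rfl | rfl); exacts [one_mem _, mem_zpowers _]⟩
      rintro ⟨k, rfl⟩
      have h3 : w ^ (2 : ℤ) = 1 := by rw [zpow_two, hw2.2]
      rcases Int.even_or_odd' k with ⟨j, rfl | rfl⟩
      · left; simp only; rw [zpow_mul, h3, one_zpow]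
      · right; simp only; rw [zpow_add_one, zpow_mul, h3, one_zpow, one_mul]
    have hnorm : (zpowers w).Normal := ⟨fun y hy g => by
      rw [hcen y (zpowers_le_of_mem hw hy) g, mul_inv_cancel_right]; exact hy⟩
    have hinv : ∀ y : G, y * y = 1 ∨ y * y = w → y = 1 ∨ y = w ∨ y ∈ D ∨ y * w ∈ D := fun y hy => by
      by_cases hy1 : y ∈ zpowers w
      · rcases (hz y).1 hy1 with e | e
        exacts [Or.inl e, Or.inr (Or.inl e)]
      obtain ⟨d, hd, e⟩ := quot ih hn h hpc hnt hgen (zpowers w) (by simpa using hw2.1)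
        (fun g hg => (hmN g).1 (zpowers_le_of_mem hw hg)) hy1 ((hz _).2 hy)
      rcases (hz _).1 e with e | e
      · rw [← hps.inv_eq hd, inv_mul_eq_one] at e
        exact Or.inr (Or.inr (Or.inl (e ▸ hd)))
      · rw [← hps.inv_eq hd, inv_mul_eq_iff_eq_mul] at e
        refine Or.inr (Or.inr (Or.inr ?_))
        rwa [e, mul_assoc, hw2.2, mul_one]
    have hpow : ∀ k : ℕ, ∀ g ∈ N, g ^ 2 ^ k = 1 → g = 1 ∨ g = w := by
      intro k
      induction k with
      | zero => intro g _ e; exact Or.inl (by simpa using e)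
      | succ k ihk =>
        intro g hg e
        rcases hinv g (ihk (g * g) (N.mul_mem hg hg) (by rw [← sq, ← pow_mul, ← pow_succ', e])) with
          e | e | e | e
        exacts [Or.inl e, Or.inr e, absurd hg (hDN g e), absurd (N.mul_mem hg hw) (hDN _ e)]
    refine h.not_central_kernel hpc hgen hr hnt hw2 (hcen w hw) (fun g => ⟨fun hg => ?_, ?_⟩) hinv
    · obtain ⟨k, m, hm, e⟩ := Nat.exists_eq_two_pow_mul_odd (orderOf_pos g).ne'
      refine hpow k g ((hmN g).2 hg) (hodd _ (N.pow_mem ((hmN g).2 hg) _) ?_)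
      exact hm.of_dvd_nat (orderOf_dvd_of_pow_eq_one (by rw [← pow_mul, ← e, pow_orderOf_eq_one]))
    · rintro (rfl | rfl)
      · exact fun a => one_smul G a
      · exact (hmN _).1 hw
  have hf : ∀ g : G, (∀ a : Ω, g • a = a) → g = 1 := fun g hg => by
    refine hodd g ((hmN g).2 hg) (odd_orderOf_of_mem ?_ ((hmN g).2 hg))
    by_contra h3
    exact hev (Bender.exists_invol_of_even (Nat.not_odd_iff_even.1 h3))
  by_contra hxD
  have hP : HypP Ω D pt := ⟨hps, h.nodd, hpc, h.surj, hnt, simple h hpc hnt hgen hr hf, hr,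
    good ih hn hps h.nodd hpc, x, hx2, hxD⟩
  obtain ⟨s, hs, hsD, hs2⟩ := hP.exists_typeII
  exact (hypC_of hP).not_typeII hs hsD hs2

theorem claim (n : ℕ) : Claim.{u, v} n := by
  classical
  induction n using Nat.strong_induction_on with
  | _ n ih =>
    intro G Ω _ _ _ D pt hn h hno hpc h2 x hx hx2
    obtain ⟨a, ha, b, hb, -, -, hab⟩ := h2
    let Δ : SubMulAction G Ω :=
      { carrier := {c | ∃ d ∈ D, pt d = c}
        smul_mem' := by
          rintro g _ ⟨d, hd, rfl⟩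
          exact ⟨_, h.conj d hd g, h.pt_conj hd g⟩ }
    let pt' : G → Δ := fun g => if hg : g ∈ D then ⟨pt g, g, hg, rfl⟩ else ⟨pt a, a, ha, rfl⟩
    have hpt : ∀ d ∈ D, (pt' d : Ω) = pt d := fun d hd => by simp only [pt', dif_pos hd]
    refine core (Ω := Δ) (pt := pt') ih hn ⟨⟨h.inv, h.conj, fun d hd c => ?_, fun d hd e he hne => ?_⟩,
      fun d hd => ?_, ?_⟩ hpc ⟨⟨pt a, a, ha, rfl⟩, ⟨pt b, b, hb, rfl⟩, fun e => hab (congrArg Subtype.val e)⟩
      hx hx2
    · rw [Subtype.ext_iff, Subtype.ext_iff, hpt d hd]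
      exact h.fix d hd c
    · exact h.odd d hd e he fun e1 => hne (Subtype.ext (by rw [hpt d hd, hpt e he, e1]))
    · have : sw D (pt' d) (pt' d) = sw D (pt d) (pt d) := by
        ext y
        rw [mem_sw, mem_sw, Subtype.ext_iff, SubMulAction.val_smul, hpt d hd]
      rw [this]
      exact hno d hd
    · rintro ⟨_, d, hd, rfl⟩
      exact ⟨d, hd, Subtype.ext (hpt d hd)⟩

end ThmP

/-- Theorem P. -/
theorem thmP {G Ω : Type*} [Group G] [Finite G] [MulAction G Ω] {D : Set G} {pt : G → Ω}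
    (h : PS Ω D pt) (hn : NOdd D pt)
    (hpc : ∀ a ∈ D, ∀ b ∈ D, a * b = b * a → a ≠ b → a * b ∈ D)
    {a b : G} (ha : a ∈ D) (hb : b ∈ D) (hab : pt a ≠ pt b) {u : G} (hu : u ∈ closure D)
    (hu2 : orderOf u = 2) : u ∈ D :=
  ThmP.claim _ G Ω D pt rfl h hn hpc ⟨a, ha, b, hb, trivial, trivial, hab⟩ u hu (invol_iff_orderOf.2 hu2)

end Cfsg.Agent.Core3
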