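import Mathlib
import Cfsg.Agent.Core2.PDefs
import Cfsg.Agent.Core3.ThmP
import Cfsg.Agent.Bender.Cor

/-! Applications of Theorem P: the coset set-up for a class of involutions. -/

set_option autoImplicit false
set_option linter.unusedSectionVars false
set_option linter.unusedVariables false

namespace Cfsg.Agent.Core3

open MulAction Subgroup Cfsg.Agent.PLocal.Amb Cfsg.Agent.RankOne Cfsg.Agent.Suz Cfsg.Agent.Bender
open Cfsg.Agent.Core2

variable {G : Type*} [Group G]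

/-- The conjugacy class of `z`. -/
def cls (z : G) : Set G := {d | ∃ g : G, g * z * g⁻¹ = d}

theorem self_mem_cls (z : G) : z ∈ cls z := ⟨1, by simp⟩

theorem conj_mem_cls (z g : G) : g * z * g⁻¹ ∈ cls z := ⟨g, rfl⟩

theorem cls_conj {z d : G} (hd : d ∈ cls z) (g : G) : g * d * g⁻¹ ∈ cls z := by
  obtain ⟨k, rfl⟩ := hd
  exact ⟨g * k, by group⟩

theorem mem_cls_iff {z d : G} : d ∈ cls z ↔ IsConj z d := isConj_iff.symm

theorem closure_cls (z : G) : closure (cls z) = normalClosure ({z} : Set G) := by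
  rw [normalClosure]
  congr 1
  ext x
  rw [mem_cls_iff, Group.mem_conjugatesOfSet_iff]
  simp

theorem smul_coe_eq_iff {H : Subgroup G} {d a : G} :
    d • (a : G ⧸ H) = (a : G ⧸ H) ↔ a⁻¹ * d * a ∈ H := by
  rw [MulAction.Quotient.smul_mk, eq_comm, QuotientGroup.eq, smul_eq_mul, mul_assoc]

theorem exists_pt {Ω : Type*} [MulAction G Ω] [Nonempty Ω] {D : Set G}
    (h : ∀ d ∈ D, ∃ b : Ω, ∀ a : Ω, d • a = a ↔ a = b) :
    ∃ pt : G → Ω, ∀ d ∈ D, ∀ a : Ω, d • a = a ↔ a = pt d := by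
  classical
  choose f hf using h
  exact ⟨fun d => if hd : d ∈ D then f d hd else Classical.arbitrary Ω, fun d hd a => by
    simp only [dif_pos hd]; exact hf d hd a⟩

variable [Finite G]

theorem ps_of_crit {Ω : Type*} [MulAction G Ω] {D : Set G} {pt : G → Ω}
    (hinv : ∀ d ∈ D, orderOf d = 2) (hconj : ∀ d ∈ D, ∀ g : G, g * d * g⁻¹ ∈ D)
    (hfix : ∀ d ∈ D, ∀ a : Ω, d • a = a ↔ a = pt d)
    (hcrit : ∀ a ∈ D, ∀ a' ∈ D, a ≠ a' → a * a' = a' * a → ∀ b ∈ D,
      b * (a * a') = a * a' * b → b • pt a = pt a) : PS Ω D pt := by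
  refine ⟨hinv, hconj, hfix, fun a ha b hb hne => ?_⟩
  have ha2 := Inv.mul_self_of_orderOf_two (hinv a ha)
  have hb2 := Inv.mul_self_of_orderOf_two (hinv b hb)
  rw [← Nat.not_even_iff_odd]
  intro hev
  obtain ⟨w, hw, hw2, hwa, hwb⟩ := Inv.exists_central_involution_of_even ha2 hb2 hev
  have h1 : a * w ∈ D := by
    obtain ⟨g, -, hg | hg⟩ := Inv.mul_zpowers_conj ha2 hb2 hw
    · rw [hg]; exact hconj a ha g
    · rw [hg]; exact hconj b hb g
  have h2 : a * (a * w) = w := by rw [← mul_assoc, ha2, one_mul]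
  have h3 := hcrit a ha _ h1 (fun e => Inv.ne_one_of_orderOf_two hw2 (by simpa using e.symm))
    (by rw [h2, mul_assoc, hwa.eq, h2]) b hb (by rw [h2, hwb.eq])
  exact hne ((hfix b hb _).1 h3)

theorem odd_index_C_of_sylow {z : G} (S : Sylow 2 G) (h : ∀ s ∈ S, s * z = z * s) :
    Odd (C z).index :=
  have : Fact (Nat.Prime 2) := ⟨Nat.prime_two⟩
  Odd.of_dvd_nat (Nat.odd_iff.2 (Nat.two_dvd_ne_zero.1 S.not_dvd_index))
    (index_dvd_of_le fun s hs => mem_centralizer_singleton_iff.2 (h s hs))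

/-- The coset set-up. -/
theorem ps_coset {H : Subgroup G} {z : G} (hz : orderOf z = 2) (hzH : z ∈ H)
    (h1 : Odd (C z).index) (h2 : ∀ g : G, g * z * g⁻¹ ∈ H → g ∈ H)
    (h3 : ∀ d ∈ cls z, z * d = d * z → d ≠ z → C (z * d) ≤ H) :
    ∃ pt : G → G ⧸ H, PSS (G ⧸ H) (cls z) pt ∧ ∀ g : G, pt (g * z * g⁻¹) = g := by
  have hfix : ∀ g : G, ∀ a : G ⧸ H, (g * z * g⁻¹) • a = a ↔ a = g := by
    intro g a
    induction a using QuotientGroup.induction_on with | H a => ?_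
    rw [smul_coe_eq_iff, QuotientGroup.eq]
    have e : a⁻¹ * (g * z * g⁻¹) * a = a⁻¹ * g * z * (a⁻¹ * g)⁻¹ := by group
    rw [e]
    exact ⟨h2 _, fun h => H.mul_mem (H.mul_mem h hzH) (H.inv_mem h)⟩
  obtain ⟨pt, hpt⟩ := exists_pt (Ω := G ⧸ H) (D := cls z) (by
    rintro _ ⟨g, rfl⟩; exact ⟨g, hfix g⟩)
  have hp : ∀ g : G, pt (g * z * g⁻¹) = g := fun g =>
    ((hpt _ (conj_mem_cls z g) _).1 ((hfix g _).2 rfl)).symm
  have hps : PS (G ⧸ H) (cls z) pt := by
    refine ps_of_crit ?_ (fun d hd g => cls_conj hd g) hpt ?_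
    · rintro _ ⟨g, rfl⟩
      exact invol_iff_orderOf.1 ((invol_iff_orderOf.2 hz).conj g)
    · rintro _ ⟨g, rfl⟩ a' ha' hne hc b hb hb'
      rw [hp, smul_coe_eq_iff]
      refine h3 (g⁻¹ * a' * g⁻¹⁻¹) (cls_conj ha' _) ?_ (fun e => hne ?_) ?_
      · calc z * (g⁻¹ * a' * g⁻¹⁻¹) = g⁻¹ * (g * z * g⁻¹ * a') * g := by group
          _ = g⁻¹ * a' * g⁻¹⁻¹ * z := by rw [hc]; group
      · rw [← e]; group
      · rw [mem_centralizer_singleton_iff]
        calc g⁻¹ * b * g * (z * (g⁻¹ * a' * g⁻¹⁻¹)) = g⁻¹ * (b * (g * z * g⁻¹ * a')) * g := by group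
          _ = z * (g⁻¹ * a' * g⁻¹⁻¹) * (g⁻¹ * b * g) := by rw [hb']; group
  have hpz : pt z = ((1 : G) : G ⧸ H) := by simpa using hp 1
  refine ⟨pt, ⟨hps, fun a ha => ?_, fun a => ?_⟩, hp⟩
  · rw [hps.ncard_sw_self (self_mem_cls z) ha]
    have h4 := PSS.card_eq_of_trans (X := H) (Z := sw (cls z) (pt z) (pt z)) (z := z)
      (hps.mem_sw_self.2 ⟨self_mem_cls z, rfl⟩) (fun x hx => hps.mem_sw_self.2 ⟨conj_mem_cls z x, by
        rw [hp, hpz, QuotientGroup.eq]; simpa using hx⟩) (by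
        rintro _ ⟨⟨g, rfl⟩, hw⟩
        refine ⟨g, ?_, rfl⟩
        have := (hfix g _).1 hw
        rw [hpz, QuotientGroup.eq] at this
        simpa using this)
    have h5 : C z ≤ H := fun c hc => h2 c (by
      rw [mem_centralizer_singleton_iff.1 hc, mul_inv_cancel_right]; exact hzH)
    rw [inf_eq_right.2 h5, ← Grp.card_inf_mul_relIndex' (C z) H, inf_eq_left.2 h5, mul_comm] at h4
    rw [← Nat.eq_of_mul_eq_mul_right Nat.card_pos h4]
    exact Odd.of_dvd_nat h1 (Dvd.intro _ (relIndex_mul_index h5))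
  · induction a using QuotientGroup.induction_on with | H a => ?_
    exact ⟨_, conj_mem_cls z a, hp a⟩

/-- Theorem P when no involution of `⟨D⟩` acts trivially. -/
theorem mem_of_faith {Ω : Type*} [MulAction G Ω] {D : Set G} {pt : G → Ω} (h : PSS Ω D pt)
    (hnt : ∃ a b : Ω, a ≠ b) (hf : ∀ w ∈ closure D, Invol w → ∃ a : Ω, w • a ≠ a) {u : G}
    (hu : u ∈ closure D) (hu2 : Invol u) : u ∈ D := by
  obtain ⟨a, b, hab⟩ := hnt
  obtain ⟨a, ha, rfl⟩ := h.surj a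
  obtain ⟨b, hb, rfl⟩ := h.surj b
  refine thmP h.ps h.nodd (fun d hd e he hc hde => ?_) ha hb hab hu (invol_iff_orderOf.1 hu2)
  refine (h.ps.subgroup (closure D)).mul_mem
    (h.ps.nOdd_subgroup h.nodd _ ha hb (subset_closure ha) (subset_closure hb) hab) ?_
    (a := ⟨d, subset_closure hd⟩) (b := ⟨e, subset_closure he⟩) hd he (Subtype.ext hc)
    (fun e1 => hde (congrArg Subtype.val e1))
  intro w hw
  obtain ⟨c, hc⟩ := hf w w.2 (invol_iff_orderOf.2 (by rwa [orderOf_coe]))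
  obtain ⟨c, hcD, rfl⟩ := h.surj c
  exact ⟨⟨c, subset_closure hcD⟩, hcD, hc⟩

theorem exists_ne_coset {H : Subgroup G} (hH : H ≠ ⊤) : ∃ a b : G ⧸ H, a ≠ b := by
  obtain ⟨g, hg⟩ : ∃ g, g ∉ H := by
    by_contra hc
    push Not at hc
    exact hH (eq_top_iff.2 fun g _ => hc g)
  exact ⟨(1 : G), g, fun e => hg (by simpa using QuotientGroup.eq.1 e)⟩

/-- Strong embedding in a subgroup whose involutions are conjugate to `z`. -/
theorem se_subgroupOf_of_cls {H K : Subgroup G} {z : G} (hz : orderOf z = 2) (hzH : z ∈ H)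
    (hzK : z ∈ K) (hK : ¬ K ≤ H) (h2 : ∀ g : G, g * z * g⁻¹ ∈ H → g ∈ H)
    (h : ∀ u ∈ K, Invol u → u ∈ cls z) : IsStronglyEmbedded (H.subgroupOf K) := by
  rw [Inv.isStronglyEmbedded_iff]
  refine ⟨fun e => hK (subgroupOf_eq_top.1 e), even_of_invol (s := ⟨z, hzK⟩) hzH
    (fun e => Inv.ne_one_of_orderOf_two hz (congrArg Subtype.val e))
    (Subtype.ext (Inv.mul_self_of_orderOf_two hz)), fun t ht ht2 g hg => ?_⟩
  obtain ⟨k, hk⟩ := h t t.2 (invol_iff_orderOf.2 (by rwa [orderOf_coe]))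
  have h3 : k ∈ H := h2 k (hk ▸ ht)
  have h4 : g * k ∈ H := h2 _ (by
    have : (g : G) * t * (g : G)⁻¹ ∈ H := hg
    rwa [← hk, show (g : G) * (k * z * k⁻¹) * (g : G)⁻¹ = g * k * z * (g * k)⁻¹ by group] at this)
  exact (H.mul_mem_cancel_right h3).1 h4

/-- Aschbacher's criterion in a simple group. -/
theorem se_of_simple [IsSimpleGroup G] {H : Subgroup G} (hH : H ≠ ⊤) {z : G} (hz : orderOf z = 2)
    (hzH : z ∈ H) (h1 : Odd (C z).index) (h2 : ∀ g : G, g * z * g⁻¹ ∈ H → g ∈ H)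
    (h3 : ∀ d ∈ cls z, z * d = d * z → d ≠ z → C (z * d) ≤ H) : IsStronglyEmbedded H := by
  obtain ⟨pt, h, -⟩ := ps_coset hz hzH h1 h2 h3
  have htop : closure (cls z) = ⊤ := by
    rw [closure_cls]
    refine (normalClosure_normal.eq_bot_or_eq_top).resolve_left fun e => ?_
    have : z ∈ normalClosure ({z} : Set G) := subset_normalClosure rfl
    rw [e, mem_bot] at this
    exact Inv.ne_one_of_orderOf_two hz this
  have hall : ∀ u, Invol u → u ∈ cls z := fun u hu =>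
    mem_of_faith h (exists_ne_coset hH) (fun w _ hw => by
      by_contra hc
      push Not at hc
      exact hw.1 (faithful_of_core (normalCore_eq_bot_of_simple hH) w hc)) (htop ▸ mem_top u) hu
  rw [Inv.isStronglyEmbedded_iff]
  refine ⟨hH, even_of_invol hzH (Inv.ne_one_of_orderOf_two hz) (Inv.mul_self_of_orderOf_two hz),
    fun t ht ht2 g hg => ?_⟩
  obtain ⟨k, rfl⟩ := hall t (invol_iff_orderOf.2 ht2)
  have h4 : g * k ∈ H := h2 _ (by
    rwa [show g * (k * z * k⁻¹) * g⁻¹ = g * k * z * (g * k)⁻¹ by group] at hg)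
  exact (H.mul_mem_cancel_right (h2 k ht)).1 h4

/-- Aschbacher's criterion for a strongly closed subgroup. -/
theorem se_of_gen_ne {X : Type*} [Group X] [Finite X] [IsSimpleGroup X] (S : Sylow 2 X) (T : Subgroup X) (hT1 : T ≠ ⊥) (hT : Cfsg.IsStronglyClosed T (S : Subgroup X)) (hprop : (⨆ t : {t : X // t ∈ T ∧ orderOf t = 2}, Subgroup.centralizer ({(t : X)} : Set X)) ≠ ⊤) : ∃ H : Subgroup X, Cfsg.IsStronglyEmbedded H := by
  have : Fact (Nat.Prime 2) := ⟨Nat.prime_two⟩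
  set H0 := ⨆ t : {t : X // t ∈ T ∧ orderOf t = 2}, Subgroup.centralizer ({(t : X)} : Set X)
    with hH0
  have hC : ∀ t ∈ T, Invol t → C t ≤ H0 := fun t ht h2 =>
    le_iSup (fun t : {t : X // t ∈ T ∧ orderOf t = 2} => Subgroup.centralizer ({(t : X)} : Set X))
      ⟨t, ht, invol_iff_orderOf.1 h2⟩
  have hNT : 𝐍[(S : Subgroup X)] ≤ 𝐍[T] := le_normalizer_iff_cj.2 fun g hg => by
    intro x hx
    obtain ⟨y, hy, rfl⟩ := mem_cj_iff_exists.1 hx
    exact hT.2 y hy g (conj_mem_of_mem_normalizer hg (hT.1 hy))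
  have hNH : 𝐍[T] ≤ 𝐍[H0] := le_normalizer_iff_cj.2 fun g hg => by
    rw [hH0, cj_iSup, iSup_le_iff]
    rintro ⟨t, ht, h2⟩
    rw [← centralizer_singleton_conj]
    exact hC _ (conj_mem_of_mem_normalizer hg ht) ((invol_iff_orderOf.2 h2).conj g)
  obtain ⟨z, hzT, hz, hzS⟩ : ∃ z ∈ T, Invol z ∧ ∀ s ∈ S, s * z = z * s := by
    have h1 := inf_centralizer_ne_bot S.isPGroup' (S.isPGroup'.to_le hT.1)
      (le_normalizer.trans hNT) hT1
    obtain ⟨z, hz, h2, h3⟩ := RankOne.exists_invol_of_even (X := T ⊓ 𝐂[(S : Subgroup X)]) (by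
      obtain ⟨k, hk⟩ := IsPGroup.iff_card.1 ((S.isPGroup'.to_le hT.1).to_le
        (inf_le_left (b := 𝐂[(S : Subgroup X)])))
      rw [hk]
      refine (Nat.even_pow.2 ⟨even_two, fun e => h1 ?_⟩)
      rw [e, pow_zero] at hk
      exact eq_bot_of_card_eq _ hk)
    exact ⟨z, hz.1, ⟨h2, h3⟩, fun s hs => hz.2 s hs⟩
  have hSC : (S : Subgroup X) ≤ C z := fun s hs => mem_centralizer_singleton_iff.2 (hzS s hs)
  have hzH : z ∈ H0 := hC z hzT hz (mem_centralizer_singleton_iff.2 rfl)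
  have hSH : (S : Subgroup X) ≤ H0 := hSC.trans (hC z hzT hz)
  refine ⟨𝐍[H0], se_of_simple (fun e => ?_) (invol_iff_orderOf.1 hz) (le_normalizer hzH)
    (odd_index_C_of_sylow S hzS) (fun g hg => ?_) ?_⟩
  · rcases (normalizer_eq_top_iff.1 e).eq_bot_or_eq_top with e1 | e1
    · rw [e1, mem_bot] at hzH; exact hz.1 hzH
    · exact hprop e1
  · obtain ⟨m, hm, h1⟩ := (isSyl_of_le S (hSH.trans le_normalizer)).exists_cj_le
      (LemY.isPGroup_zpowers_invol (hz.conj g)) (zpowers_le_of_mem hg)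
    have h2 : m * g * z * (m * g)⁻¹ ∈ T := hT.2 z hzT _ (by
      have := h1 (conj_mem_cj m (mem_zpowers _))
      rwa [show m * (g * z * g⁻¹) * m⁻¹ = m * g * z * (m * g)⁻¹ by group] at this)
    have h3 : cj(m * g, (S : Subgroup X)) ≤ H0 := by
      refine le_trans ?_ (hC _ h2 (hz.conj _))
      rw [C, centralizer_singleton_conj]
      exact cj_mono _ hSC
    obtain ⟨k, hk, h4⟩ := (isSyl_of_le S hSH).exists_cj_le (isPGroup_cj _ S.isPGroup') h3
    rw [← cj_mul] at h4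
    have h5 := hNH (hNT (mem_normalizer_of_cj_le h4))
    exact (Subgroup.mul_mem_cancel_left _ hm).1
      ((Subgroup.mul_mem_cancel_left _ (le_normalizer hk)).1 h5)
  · rintro _ ⟨g, rfl⟩ hc hne
    obtain ⟨c, hcC, h1⟩ := (isSyl_of_le S hSC).exists_cj_le
      (LemY.isPGroup_zpowers_invol (hz.conj g))
      (zpowers_le_of_mem (mem_centralizer_singleton_iff.2 hc.symm))
    have h2 : c * g * z * (c * g)⁻¹ ∈ T := hT.2 z hzT _ (by
      have := h1 (conj_mem_cj c (mem_zpowers _))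
      rwa [show c * (g * z * g⁻¹) * c⁻¹ = c * g * z * (c * g)⁻¹ by group] at this)
    have h3 : c * (z * (g * z * g⁻¹)) * c⁻¹ ∈ T := by
      have h4 : c * z = z * c := mem_centralizer_singleton_iff.1 hcC
      rw [show c * (z * (g * z * g⁻¹)) * c⁻¹ = c * z * c⁻¹ * (c * g * z * (c * g)⁻¹) by group, h4,
        mul_inv_cancel_right]
      exact T.mul_mem hzT h2
    have h4 := hC _ h3 ((hz.mul (hz.conj g) hne.symm hc).conj c)
    rw [C, centralizer_singleton_conj, cj_le_iff,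
      cj_of_mem (H0.inv_mem (hC z hzT hz hcC))] at h4
    exact h4.trans le_normalizer

end Cfsg.Agent.Core3
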